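import Cfsg.Agent.Lib.NormPSL.Local
import Cfsg.Agent.Lib.Invol.ZStar
import Cfsg.Agent.Lib.CIT.Main
import Cfsg.Agent.S2202
import Cfsg.Agent.Lib.Invol.SmallSimple
import Cfsg.Agent.Lib.Classical.ProjLine

/-!
# The simple case: all 2-elements of `C(t)` centralize its odd elements
-/

set_option autoImplicit false
set_option linter.unusedSectionVars false
set_option linter.style.haveILetI false

namespace CfsgLib.NormPSL

open Subgroup

variable {G : Type*} [Group G] [Finite G]

/-- The conclusion for simple groups. -/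
def IsPSLTwo (G : Type*) [Group G] : Prop :=
  ∃ (F : Type) (_ : Field F) (_ : Fintype F), 3 < Fintype.card F ∧
    Nonempty (G ≃* Matrix.ProjectiveSpecialLinearGroup (Fin 2) F)

/-- A cyclic group has at most one involution. -/
theorem invol_unique {x u u' : G} (hu : orderOf u = 2) (hu' : orderOf u' = 2) (h : u ∈ zpowers x)
    (h' : u' ∈ zpowers x) : u = u' := by
  have hd : 2 ∣ orderOf x := hu ▸ orderOf_dvd_of_mem_zpowers h
  obtain ⟨m, hm⟩ := hd
  have key : ∀ w : G, orderOf w = 2 → w ∈ zpowers x → w = x ^ (m : ℤ) := by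
    intro w hw hwx
    obtain ⟨i, rfl⟩ := mem_zpowers_iff.1 hwx
    have h2 : x ^ (i * 2) = 1 := by rw [zpow_mul, zpow_two, invol_sq hw]
    rw [← orderOf_dvd_iff_zpow_eq_one, hm, Nat.cast_mul, mul_comm i] at h2
    obtain ⟨k, hk⟩ := (Int.mul_dvd_mul_iff_left (by norm_num)).1 h2
    subst hk
    have hxm : x ^ (m : ℤ) * x ^ (m : ℤ) = 1 := by
      rw [← zpow_add, ← two_mul, ← orderOf_dvd_iff_zpow_eq_one, hm, Nat.cast_mul]; rfl
    obtain ⟨j, rfl⟩ | ⟨j, rfl⟩ := Int.even_or_odd k
    · exfalso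
      refine invol_ne_one hw ?_
      rw [← two_mul, zpow_mul, zpow_mul, zpow_two, hxm, one_zpow]
    · rw [mul_add, mul_one, zpow_add, zpow_mul, zpow_mul, zpow_two, hxm, one_zpow, one_mul]
  rw [key u hu h, key u' hu' h']

theorem false_of_isolated [IsSimpleGroup G] (hna : ¬ IsMulCommutative G) {z : G}
    (hz : Cfsg.IsIsolatedInvolution z) : False := by
  have h := CfsgLib.Invol.zstar hz
  rcases (inferInstance : (Cfsg.pPrimeCore 2 G).Normal).eq_bot_or_eq_top with e | e
  · have hc : z ∈ center G := mem_center_iff.2 fun g => by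
      have h1 := h g
      rw [e, mem_bot, mul_inv_eq_one, mul_inv_eq_iff_eq_mul] at h1
      exact h1.symm
    rcases (inferInstance : (center G).Normal).eq_bot_or_eq_top with e' | e'
    · exact invol_ne_one hz.1 (mem_bot.1 (e' ▸ hc))
    · exact hna (isMulCommutative_iff.2 fun a b => (mem_center_iff.1 (e' ▸ mem_top b : b ∈ center G) a))
  · have hd := orderOf_dvd_natCard (Cfsg.pPrimeCore 2 G) (x := z) (e ▸ mem_top z)
    rw [hz.1] at hd
    exact CfsgLib.Coprime.pPrimeCore_not_dvd Nat.prime_two hd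

theorem false_of_weakly_closed [IsSimpleGroup G] (hna : ¬ IsMulCommutative G) (T : Sylow 2 G) {z : G}
    (hz : orderOf z = 2) (h : ∀ g : G, g * z * g⁻¹ ∈ T → g * z * g⁻¹ = z) : False := by
  have hh := CfsgLib.Invol.zstar_of_weakly_closed T hz h
  rcases (inferInstance : (Cfsg.pPrimeCore 2 G).Normal).eq_bot_or_eq_top with e | e
  · have hc : ∀ g : G, g * z = z * g := fun g => by
      have h1 := hh g
      rw [e, mem_bot, mul_inv_eq_one, mul_inv_eq_iff_eq_mul] at h1
      exact h1.symm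
    exact false_of_isolated hna ⟨hz, fun g _ => by rw [hc, mul_inv_cancel_right]⟩
  · have hd := orderOf_dvd_natCard (Cfsg.pPrimeCore 2 G) (x := z) (e ▸ mem_top z)
    rw [hz] at hd
    exact CfsgLib.Coprime.pPrimeCore_not_dvd Nat.prime_two hd

theorem exists_central_invol (T : Sylow 2 G) {t : G} (ht : orderOf t = 2) (htT : t ∈ (T : Subgroup G)) :
    ∃ z ∈ (T : Subgroup G), orderOf z = 2 ∧ ∀ x ∈ (T : Subgroup G), x * z = z * x := by
  haveI : Fact (Nat.Prime 2) := ⟨Nat.prime_two⟩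
  haveI : Nontrivial (T : Subgroup G) :=
    ⟨⟨⟨t, htT⟩, 1, fun e => invol_ne_one ht (congrArg Subtype.val e)⟩⟩
  haveI := T.2.center_nontrivial
  obtain ⟨k, hk⟩ := (T.2.to_subgroup (center (T : Subgroup G))).exists_card_eq
  have h2 : 2 ∣ Nat.card (center (T : Subgroup G)) := by
    rcases k with _ | k
    · have := Finite.one_lt_card (α := center (T : Subgroup G))
      rw [hk] at this; norm_num at this
    · rw [hk]; exact dvd_pow_self 2 (by omega)
  obtain ⟨w, hw⟩ := exists_prime_orderOf_dvd_card' 2 h2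
  refine ⟨((w : (T : Subgroup G)) : G), (w : (T : Subgroup G)).2,
    by rw [Subgroup.orderOf_coe, Subgroup.orderOf_coe, hw], fun x hx => ?_⟩
  exact congrArg Subtype.val (mem_center_iff.1 w.2 ⟨x, hx⟩)

theorem exists_sylow_mem {t : G} (ht : IsTwo t) : ∃ T : Sylow 2 G, t ∈ (T : Subgroup G) := by
  haveI : Fact (Nat.Prime 2) := ⟨Nat.prime_two⟩
  have hp : IsPGroup 2 (zpowers t) := fun w => by
    obtain ⟨k, hk⟩ := ht.of_mem_zpowers w.2
    exact ⟨k, Subtype.ext hk⟩
  obtain ⟨T, hT⟩ := hp.exists_le_sylow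
  exact ⟨T, hT (mem_zpowers t)⟩

theorem exists_conj_mem_sylow (T : Sylow 2 G) {t : G} (ht : IsTwo t) :
    ∃ g : G, g * t * g⁻¹ ∈ (T : Subgroup G) := by
  haveI : Fact (Nat.Prime 2) := ⟨Nat.prime_two⟩
  obtain ⟨R, hR⟩ := exists_sylow_mem ht
  obtain ⟨g, hg⟩ := MulAction.exists_smul_eq G R T
  exact ⟨g, hg ▸ Subgroup.smul_mem_pointwise_smul t (MulAut.conj g) _ hR⟩

theorem false_of_card_twelve [IsSimpleGroup G] (hna : ¬ IsMulCommutative G) (h12 : Nat.card G = 12) :
    False := by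
  have h := CfsgLib.Invol.card_eq_sixty_of_le_hundred hna (by omega)
  omega

theorem card_gt_three_of_sl_two {F : Type} [Field F] [Fintype F] [CharP F 2] [IsSimpleGroup G]
    (hna : ¬ IsMulCommutative G) (e : G ≃* Matrix.SpecialLinearGroup (Fin 2) F) : 3 < Fintype.card F := by
  obtain ⟨n, hp, hn⟩ := FiniteField.card F 2
  classical
  by_contra hle
  push Not at hle
  have h1 : (n : ℕ) = 1 := by
    have h2 : 2 ^ (n : ℕ) < 2 ^ 2 := by omega
    have := (Nat.pow_lt_pow_iff_right (by norm_num : 1 < 2)).1 h2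
    have := n.pos
    omega
  have hcard : Nat.card G = 6 := by
    rw [Nat.card_congr e.toEquiv, CfsgLib.Classical.card_sl2, hn, h1]; rfl
  haveI : Fact (Nat.Prime 3) := ⟨Nat.prime_three⟩
  obtain ⟨w, hw⟩ := exists_prime_orderOf_dvd_card' (G := G) 3 (by rw [hcard]; norm_num)
  have hi : (zpowers w).index = 2 := by
    have := (zpowers w).card_mul_index
    rw [Nat.card_zpowers, hw, hcard] at this
    omega
  exact CfsgLib.CIT.index_ne_two_of_simple hna _ (normal_of_index_eq_two hi) hi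

variable [IsSimpleGroup G] (h : Hyp G)
include h

/-- If all 2-elements of `C(t)` centralize its odd elements then `G` is `PSL₂(2ⁿ)`. -/
theorem Hyp.psl_of_centr (hna : ¬ IsMulCommutative G) {t : G} (ht : orderOf t = 2) (hA : HasA t)
    (hc : ∀ x : G, IsTwo x → x * t = t * x → Centr x t) : IsPSLTwo G := by
  haveI : Fact (Nat.Prime 2) := ⟨Nat.prime_two⟩
  have hinv : ∀ v : G, orderOf v = 2 → v * t = t * v → SameC v t := fun v hv hvt =>
    h.sameC_of_centr ht hv hvt hA (hc v (IsTwo.of_invol hv) hvt)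
  obtain ⟨T, htT⟩ := exists_sylow_mem (IsTwo.of_invol ht)
  obtain ⟨z, hzT, hz, hzc⟩ := exists_central_invol T ht htT
  have hzt : z * t = t * z := (hzc t htT).symm
  have hTC : ∀ x ∈ (T : Subgroup G), x * t = t * x := fun x hx => (hinv z hz hzt x).1 (hzc x hx)
  by_cases huniq : ∀ v : G, orderOf v = 2 → v * t = t * v → v = t
  · exact (false_of_weakly_closed hna T ht fun g hg =>
      huniq _ (by rw [orderOf_conj, ht]) (hTC _ hg)).elim
  push Not at huniq
  obtain ⟨v₀, hv₀, hv₀t, hv₀ne⟩ := huniq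
  have hfix : ∀ x : G, IsTwo x → x * t = t * x → ∀ g : G, g * t = t * g → g * x * g⁻¹ ∈ zpowers x :=
    fun x hx hxt => h.centr_normal ht hA hx hxt (hc x hx hxt)
  have hcommon : ∀ x y : G, IsTwo x → x * t = t * x → IsTwo y → y * t = t * y → ¬ Commute x y →
      ∃ u, orderOf u = 2 ∧ u ∈ zpowers x ∧ u ∈ zpowers y := by
    intro x y hx hxt hy hyt hne
    have h1 : x * y * x⁻¹ * y⁻¹ ∈ zpowers y := mul_mem (hfix y hy hyt x hxt) (inv_mem (mem_zpowers y))
    have h2 : x * y * x⁻¹ * y⁻¹ ∈ zpowers x := by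
      rw [show x * y * x⁻¹ * y⁻¹ = x * (y * x * y⁻¹)⁻¹ by group]
      exact mul_mem (mem_zpowers x) (inv_mem (hfix x hx hxt y hyt))
    obtain ⟨u, hu, huc⟩ := (hx.of_mem_zpowers h2).exists_invol
      (fun e => hne (by rwa [mul_inv_eq_one, mul_inv_eq_iff_eq_mul] at e))
    exact ⟨u, hu, zpowers_le.2 h2 huc, zpowers_le.2 h1 huc⟩
  have hcomm : ∀ x y : G, IsTwo x → x * t = t * x → IsTwo y → y * t = t * y → Commute x y := by
    intro x y hx hxt hy hyt
    by_contra hne
    obtain ⟨u, hu, hux, huy⟩ := hcommon x y hx hxt hy hyt hne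
    have hus : SameC u t := hinv u hu (comm_of_mem_zpowers hxt hux)
    refine false_of_isolated hna ⟨hu, fun g hg => ?_⟩
    set v := g * u * g⁻¹ with hv
    have hvo : orderOf v = 2 := by rw [hv, orderOf_conj, hu]
    have hvs : SameC v t := hinv v hvo ((hus v).1 hg.eq.symm)
    have hin : ∀ w : G, u ∈ zpowers w → (g * w * g⁻¹) * t = t * (g * w * g⁻¹) ∧ v ∈ zpowers (g * w * g⁻¹) := by
      intro w hw
      refine ⟨(hvs _).1 (comm_conj ?_), ?_⟩
      · obtain ⟨i, hi⟩ := mem_zpowers_iff.1 hw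
        rw [← hi]; exact ((Commute.refl w).zpow_right i).eq
      · obtain ⟨i, hi⟩ := mem_zpowers_iff.1 hw
        exact ⟨i, by show (g * w * g⁻¹) ^ i = v; rw [conj_zpow, hi]⟩
    by_contra hvu
    have hx' := hin x hux
    have hy' := hin y huy
    have hdis : ∀ a b : G, IsTwo a → a * t = t * a → IsTwo b → b * t = t * b → u ∈ zpowers a →
        v ∈ zpowers b → Commute a b := by
      intro a b ha hat hb hbt hua hvb
      by_contra hab
      obtain ⟨w, hw, hwa, hwb⟩ := hcommon a b ha hat hb hbt hab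
      exact hvu ((invol_unique hvo hw hvb hwb).trans (invol_unique hw hu hwa hua))
    have c1 := hdis x (g * x * g⁻¹) hx hxt (hx.conj g) hx'.1 hux hx'.2
    have c2 := hdis x (g * y * g⁻¹) hx hxt (hy.conj g) hy'.1 hux hy'.2
    have c3 := hdis y (g * x * g⁻¹) hy hyt (hx.conj g) hx'.1 huy hx'.2
    have hne' : ¬ Commute (g * x * g⁻¹) (g * y * g⁻¹) := fun e => hne
      ((MulAut.conj g).injective (by rw [map_mul, map_mul]; exact e.eq))
    have hX : IsTwo (x * (g * x * g⁻¹)) := hx.mul (hx.conj g) c1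
    have hXt : (x * (g * x * g⁻¹)) * t = t * (x * (g * x * g⁻¹)) :=
      ((show Commute x t from hxt).mul_left hx'.1).eq
    have n1 : ¬ Commute (x * (g * x * g⁻¹)) y := fun e => hne (by
      have := e.mul_left c3.symm.inv_left
      rwa [mul_inv_cancel_right] at this)
    have n2 : ¬ Commute (x * (g * x * g⁻¹)) (g * y * g⁻¹) := fun e => hne' (by
      have := c2.inv_left.mul_left e
      rwa [inv_mul_cancel_left] at this)
    obtain ⟨w1, hw1, hw1X, hw1y⟩ := hcommon _ _ hX hXt hy hyt n1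
    obtain ⟨w2, hw2, hw2X, hw2y⟩ := hcommon _ _ hX hXt (hy.conj g) hy'.1 n2
    exact hvu ((invol_unique hvo hw2 hy'.2 hw2y).trans
      ((invol_unique hw2 hw1 hw2X hw1X).trans (invol_unique hw1 hu hw1y huy)))
  have habC : ∀ g g' : G, g * t = t * g → g' * t = t * g' → Commute g g' := by
    intro g g' hg hg'
    obtain ⟨a, b, rfl, hag, hbg, ha, hb⟩ := exists_odd_mul_two g
    obtain ⟨a', b', rfl, hag', hbg', ha', hb'⟩ := exists_odd_mul_two g'
    have hat := comm_of_mem_zpowers hg hag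
    have hbt := comm_of_mem_zpowers hg hbg
    have hat' := comm_of_mem_zpowers hg' hag'
    have hbt' := comm_of_mem_zpowers hg' hbg'
    exact ((h.inA_comm ht ⟨ha, hat⟩ ⟨ha', hat'⟩).mul_right
        (hc b' hb' hbt' a ⟨ha, hat⟩).symm).mul_left
      ((show Commute b a' from hc b hb hbt a' ⟨ha', hat'⟩).mul_right (hcomm b b' hb hbt hb' hbt'))
  have hall : ∀ v : G, orderOf v = 2 → IsMulCommutative (centralizer ({v} : Set G)) := by
    intro v hv
    obtain ⟨g, hg⟩ := exists_conj_mem_sylow T (IsTwo.of_invol hv)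
    have hs := hinv (g * v * g⁻¹) (by rw [orderOf_conj, hv]) (hTC _ hg)
    refine ⟨⟨fun a b => Subtype.ext ?_⟩⟩
    have := habC (g * a.1 * g⁻¹) (g * b.1 * g⁻¹)
      ((hs _).1 (comm_conj (mem_centralizer_singleton_iff.1 a.2)))
      ((hs _).1 (comm_conj (mem_centralizer_singleton_iff.1 b.2)))
    exact (MulAut.conj g).injective (by simp only [Subgroup.coe_mul, map_mul]; exact this.eq)
  rcases Cfsg.Agent.S2202.result (even_iff_two_dvd.2 (ht ▸ orderOf_dvd_natCard t)) hall with
    hcyc | hnor | ⟨F, iF, iF', A, iA, iA', hch, -, ⟨e⟩⟩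
  · exfalso
    have hv₀T : v₀ ∈ (T : Subgroup G) := by
      have hp : IsPGroup 2 (zpowers v₀) := IsPGroup.of_card (n := 1) (by rw [Nat.card_zpowers, hv₀, pow_one])
      have hn : zpowers v₀ ≤ normalizer ((T : Subgroup G) : Set G) := zpowers_le.2 (mem_normalizer_iff.2 fun w => by
        constructor
        · intro hw
          rwa [(habC v₀ w hv₀t (hTC w hw)).eq, mul_inv_cancel_right]
        · intro hw
          have e := habC v₀ (v₀ * w * v₀⁻¹) hv₀t (hTC _ hw)
          have : v₀ * w * v₀⁻¹ = w := by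
            have h1 : v₀ * (v₀ * w * v₀⁻¹) * v₀⁻¹ = v₀ * w * v₀⁻¹ := by rw [e.eq, mul_inv_cancel_right]
            exact mul_left_cancel (mul_right_cancel h1)
          rwa [this] at hw)
      exact (T.3 (hp.to_sup_of_normal_right' T.2 hn) le_sup_right).le (mem_sup_left (mem_zpowers v₀))
    obtain ⟨a, ha⟩ := isCyclic_iff_exists_zpowers_eq_top.1 (hcyc T)
    have hu := invol_unique (x := a) (u := (⟨v₀, hv₀T⟩ : (T : Subgroup G))) (u' := ⟨t, htT⟩)
      (by rwa [Subgroup.orderOf_mk]) (by rwa [Subgroup.orderOf_mk]) (ha ▸ mem_top _) (ha ▸ mem_top _)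
    exact hv₀ne (congrArg Subtype.val hu)
  · exfalso
    rcases (hnor T).eq_bot_or_eq_top with e | e
    · exact invol_ne_one ht (mem_bot.1 (e ▸ htT))
    · exact hna (isMulCommutative_iff.2 fun a b =>
        (habC a b (hTC a (e ▸ mem_top a)) (hTC b (e ▸ mem_top b))).eq)
  · haveI := hch
    set π : G →* A := (MonoidHom.snd _ _).comp e.toMonoidHom with hπ
    rcases (inferInstance : π.ker.Normal).eq_bot_or_eq_top with e' | e'
    · exact absurd (isMulCommutative_iff.2 fun a b =>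
        (MonoidHom.ker_eq_bot_iff π).1 e' (by rw [map_mul, map_mul, mul_comm])) hna
    · have hA1 : ∀ a : A, a = 1 := fun a => by
        obtain ⟨g, hg⟩ := e.surjective (1, a)
        have h1 := MonoidHom.mem_ker.1 (e' ▸ mem_top g : g ∈ π.ker)
        rw [hπ, MonoidHom.comp_apply] at h1
        change (e g).2 = 1 at h1
        rwa [hg] at h1
      let φ : G ≃* Matrix.SpecialLinearGroup (Fin 2) F := MulEquiv.ofBijective
        ((MonoidHom.fst _ _).comp e.toMonoidHom) ⟨fun a b hab => e.injective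
          (Prod.ext hab ((hA1 _).trans (hA1 _).symm)), fun s => by
          obtain ⟨g, hg⟩ := e.surjective (s, 1)
          exact ⟨g, show (e g).1 = s by rw [hg]⟩⟩
      obtain ⟨e2⟩ := CfsgLib.CIT.sl_two_equiv_psl (K := F)
      exact ⟨F, iF, iF', card_gt_three_of_sl_two hna φ, ⟨φ.trans e2⟩⟩

end CfsgLib.NormPSL
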