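import Mathlib

/-!
# Normalizers of subgroups of cyclic subgroups of even order: centralizers of involutions

`Hyp G` is the element form of "every nontrivial subgroup of a cyclic subgroup of even order has the
same normalizer as the whole cyclic subgroup".  For an involution `t` the elements of odd order of
`C(t)` form a normal abelian subgroup all of whose subgroups have normalizer `C(t)`.
-/

set_option autoImplicit false
set_option linter.unusedSectionVars false

namespace CfsgLib.NormPSL

open Subgroup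

variable {G : Type*} [Group G] [Finite G]

/-- The element form of the hypothesis. -/
structure Hyp (G : Type*) [Group G] : Prop where
  fix : ∀ x t g : G, orderOf t = 2 → t ∈ zpowers x → g * t = t * g → g * x * g⁻¹ ∈ zpowers x
  odd : ∀ y t g : G, orderOf t = 2 → y ≠ 1 → Odd (orderOf y) → y * t = t * y →
    (g * y * g⁻¹ ∈ zpowers y ↔ g * t = t * g)

theorem mem_normalizer_zpowers {g x : G} :
    g ∈ normalizer ((zpowers x : Subgroup G) : Set G) ↔ g * x * g⁻¹ ∈ zpowers x := by
  refine ⟨fun h => (mem_normalizer_iff.1 h x).1 (mem_zpowers x), fun h => ?_⟩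
  have hle : (zpowers x).map (MulAut.conj g).toMonoidHom ≤ zpowers x := by
    rw [MonoidHom.map_zpowers]; exact zpowers_le.2 h
  have heq : (zpowers x).map (MulAut.conj g).toMonoidHom = zpowers x :=
    eq_of_le_of_card_ge hle (by rw [card_map_of_injective (MulAut.conj g).injective])
  refine mem_normalizer_iff.2 fun w => ?_
  conv_rhs => rw [← heq]
  exact ⟨fun hw => ⟨w, hw, rfl⟩, fun ⟨w', hw', e⟩ => (MulAut.conj g).injective e ▸ hw'⟩

theorem odd_pow_sq_self {y : G} (hy : Odd (orderOf y)) : ∃ k : ℕ, y ^ (2 * k) = y := by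
  obtain ⟨m, hm⟩ := hy
  exact ⟨m + 1, by rw [show 2 * (m + 1) = orderOf y + 1 by omega, pow_succ, pow_orderOf_eq_one, one_mul]⟩

theorem invol_sq {t : G} (ht : orderOf t = 2) : t * t = 1 := by
  rw [← pow_two, ← ht, pow_orderOf_eq_one]

theorem invol_inv {t : G} (ht : orderOf t = 2) : t⁻¹ = t :=
  inv_eq_of_mul_eq_one_left (invol_sq ht)

theorem invol_ne_one {t : G} (ht : orderOf t = 2) : t ≠ 1 := fun h => by
  rw [h, orderOf_one] at ht; omega

theorem mem_zpowers_invol {t w : G} (ht : orderOf t = 2) (hw : w ∈ zpowers t) : w = 1 ∨ w = t := by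
  obtain ⟨k, rfl⟩ := mem_zpowers_iff.1 hw
  obtain ⟨j, rfl⟩ | ⟨j, rfl⟩ := Int.even_or_odd k
  · left; rw [← two_mul, zpow_mul, zpow_two, invol_sq ht, one_zpow]
  · right; rw [zpow_add_one, zpow_mul, zpow_two, invol_sq ht, one_zpow, one_mul]

theorem orderOf_conj (g x : G) : orderOf (g * x * g⁻¹) = orderOf x := by
  rw [← MulAut.conj_apply, MulEquiv.orderOf_eq]

theorem comm_conj {g a b : G} (h : a * b = b * a) :
    (g * a * g⁻¹) * (g * b * g⁻¹) = (g * b * g⁻¹) * (g * a * g⁻¹) :=
  ((MulAut.conj g).toMonoidHom).map_mul a b ▸ ((MulAut.conj g).toMonoidHom).map_mul b a ▸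
    congrArg (MulAut.conj g).toMonoidHom h

/-- The statement's hypothesis gives the element form. -/
theorem hyp_of_normalizers (hii : ∀ X : Subgroup G, IsCyclic ↥X → Even (Nat.card ↥X) →
    ∀ Y : Subgroup G, Y ≤ X → Y ≠ ⊥ → normalizer (X : Set G) = normalizer (Y : Set G)) : Hyp G := by
  have heven : ∀ {x t : G}, orderOf t = 2 → t ∈ zpowers x → Even (Nat.card (zpowers x)) := fun ht h =>
    even_iff_two_dvd.2 (ht ▸ orderOf_dvd_natCard _ h)
  have hne : ∀ {w : G}, w ≠ 1 → zpowers w ≠ ⊥ := fun h e => h (zpowers_eq_bot.1 e)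
  have hC : ∀ {t g : G}, orderOf t = 2 →
      (g ∈ normalizer ((zpowers t : Subgroup G) : Set G) ↔ g * t = t * g) := by
    intro t g ht
    rw [mem_normalizer_zpowers]
    refine ⟨fun h => ?_, fun h => by rw [h, mul_inv_cancel_right]; exact mem_zpowers t⟩
    rcases mem_zpowers_invol ht h with h' | h'
    · exact absurd (conj_eq_one_iff.1 h') (invol_ne_one ht)
    · exact mul_inv_eq_iff_eq_mul.1 h'
  refine ⟨fun x t g ht htx hg => ?_, fun y t g ht hy hodd hyt => ?_⟩
  · rw [← mem_normalizer_zpowers, hii _ inferInstance (heven ht htx) _ (zpowers_le.2 htx)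
      (hne (invol_ne_one ht))]
    exact (hC ht).2 hg
  · obtain ⟨k, hk⟩ := odd_pow_sq_self hodd
    have hy' : y ∈ zpowers (t * y) := by
      refine ⟨((2 * k : ℕ) : ℤ), ?_⟩
      show (t * y) ^ ((2 * k : ℕ) : ℤ) = y
      rw [zpow_natCast, (show Commute t y from hyt.symm).mul_pow, hk, pow_mul, pow_two, invol_sq ht,
        one_pow, one_mul]
    have ht' : t ∈ zpowers (t * y) := by
      have := mul_mem (mem_zpowers (t * y)) (inv_mem hy')
      rwa [mul_inv_cancel_right] at this
    rw [← mem_normalizer_zpowers, ← hC ht,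
      ← hii _ inferInstance (heven ht ht') _ (zpowers_le.2 hy') (hne hy),
      ← hii _ inferInstance (heven ht ht') _ (zpowers_le.2 ht') (hne (invol_ne_one ht))]

/-- The hypothesis passes to groups embedded in `G`. -/
theorem Hyp.of_injective (h : Hyp G) {H : Type*} [Group H] (f : H →* G) (hf : Function.Injective f) :
    Hyp H := by
  have hz : ∀ {a b : H}, f a ∈ zpowers (f b) ↔ a ∈ zpowers b := by
    intro a b
    rw [← MonoidHom.map_zpowers]
    exact mem_map_iff_mem hf
  refine ⟨fun x t g ht htx hg => ?_, fun y t g ht hy hodd hyt => ?_⟩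
  · have := h.fix (f x) (f t) (f g) (by rw [orderOf_injective f hf, ht]) (hz.2 htx)
      (by rw [← map_mul, ← map_mul, hg])
    rwa [← map_inv, ← map_mul, ← map_mul, hz] at this
  · have := h.odd (f y) (f t) (f g) (by rw [orderOf_injective f hf, ht])
      (fun e => hy (hf (e.trans (map_one f).symm))) (by rwa [orderOf_injective f hf])
      (by rw [← map_mul, ← map_mul, hyt])
    rw [← map_inv, ← map_mul, ← map_mul, hz, ← map_mul, ← map_mul] at this
    exact this.trans ⟨fun e => hf e, fun e => congrArg f e⟩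

/-! ### Elements of odd order commuting with an involution -/

/-- `(a b)^n` when the commutator of `a` and `b` commutes with both. -/
theorem mul_pow_of_comm {a b d : G} (hba : b * a = a * b * d) (hda : Commute d a) (hdb : Commute d b)
    (n : ℕ) : (a * b) ^ n = a ^ n * b ^ n * d ^ n.choose 2 := by
  induction n with
  | zero => simp
  | succ n ih =>
    have hpush : ∀ m : ℕ, b ^ m * a = a * b ^ m * d ^ m := by
      intro m
      induction m with
      | zero => simp
      | succ m ih' =>
        calc b ^ (m + 1) * a = b * (b ^ m * a) := by rw [pow_succ']; group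
          _ = b * a * b ^ m * d ^ m := by rw [ih']; group
          _ = a * b * (d * b ^ m) * d ^ m := by rw [hba]; group
          _ = a * b * (b ^ m * d) * d ^ m := by rw [(hdb.pow_right m).eq]
          _ = a * b ^ (m + 1) * d ^ (m + 1) := by rw [pow_succ', pow_succ']; group
    rw [pow_succ, ih, show (n + 1).choose 2 = n + n.choose 2 by rw [Nat.choose_succ_succ', Nat.choose_one_right],
      pow_add d n]
    calc a ^ n * b ^ n * d ^ n.choose 2 * (a * b)
        = a ^ n * b ^ n * (a * b) * d ^ n.choose 2 := by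
          rw [mul_assoc (a ^ n * b ^ n), ((hda.mul_right hdb).pow_left _).eq, ← mul_assoc]
      _ = a ^ n * (b ^ n * a) * b * d ^ n.choose 2 := by group
      _ = a ^ n * (a * b ^ n * d ^ n) * b * d ^ n.choose 2 := by rw [hpush n]
      _ = a ^ n * a * b ^ n * (d ^ n * b) * d ^ n.choose 2 := by group
      _ = a ^ n * a * b ^ n * (b * d ^ n) * d ^ n.choose 2 := by rw [(hdb.pow_left n).eq]
      _ = a ^ (n + 1) * b ^ (n + 1) * (d ^ n * d ^ n.choose 2) := by rw [pow_succ, pow_succ]; group

variable (h : Hyp G)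
include h

theorem Hyp.normalize {y z t : G} (ht : orderOf t = 2) (hy : Odd (orderOf y)) (hyt : y * t = t * y)
    (hzt : z * t = t * z) : z * y * z⁻¹ ∈ zpowers y := by
  by_cases h1 : y = 1
  · simp [h1]
  · exact (h.odd y t z ht h1 hy hyt).2 hzt

theorem Hyp.commutator_mem {y z t : G} (ht : orderOf t = 2) (hy : Odd (orderOf y)) (hz : Odd (orderOf z))
    (hyt : y * t = t * y) (hzt : z * t = t * z) :
    z * y * z⁻¹ * y⁻¹ ∈ zpowers y ∧ z * y * z⁻¹ * y⁻¹ ∈ zpowers z := by
  refine ⟨mul_mem (h.normalize ht hy hyt hzt) (inv_mem (mem_zpowers y)), ?_⟩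
  rw [show z * y * z⁻¹ * y⁻¹ = z * (y * z⁻¹ * y⁻¹) by group]
  refine mul_mem (mem_zpowers z) ?_
  have := inv_mem (h.normalize ht hz hzt hyt)
  rwa [mul_inv_rev, mul_inv_rev, inv_inv, ← mul_assoc] at this

/-- The prime power case of `comm_odd`. -/
theorem Hyp.comm_prime_pow {y z t : G} (ht : orderOf t = 2) {p m n : ℕ} (hp : p.Prime) (hp2 : p ≠ 2)
    (hy : orderOf y = p ^ m) (hz : orderOf z = p ^ n) (hnm : n ≤ m) (hyt : y * t = t * y)
    (hzt : z * t = t * z) : Commute y z := by
  classical
  have hpo : Odd p := hp.odd_of_ne_two hp2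
  have hyo : Odd (orderOf y) := hy ▸ hpo.pow
  have hzo : Odd (orderOf z) := hz ▸ hpo.pow
  have hex : ∃ j, z ^ p ^ j ∈ zpowers y := ⟨n, by rw [← hz, pow_orderOf_eq_one]; exact one_mem _⟩
  set j := Nat.find hex
  have hj : z ^ p ^ j ∈ zpowers y := Nat.find_spec hex
  have hjn : j ≤ n := Nat.find_le (by rw [← hz, pow_orderOf_eq_one]; exact one_mem _)
  obtain ⟨s, hs⟩ := mem_zpowers_iff.1 hj
  have hdvd : ((p : ℤ) ^ j) ∣ s := by
    have e : y ^ (s * (p : ℤ) ^ (n - j)) = 1 := by
      rw [zpow_mul, hs, ← Nat.cast_pow, zpow_natCast, ← pow_mul, ← pow_add, Nat.add_sub_cancel' hjn,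
        ← hz, pow_orderOf_eq_one]
    rw [← orderOf_dvd_iff_zpow_eq_one, hy, Nat.cast_pow,
      show m = (m - (n - j)) + (n - j) by omega, pow_add] at e
    have h2 : (p : ℤ) ^ (m - (n - j)) ∣ s :=
      Int.dvd_of_mul_dvd_mul_right (pow_ne_zero _ (by exact_mod_cast hp.ne_zero)) e
    exact (pow_dvd_pow _ (by omega)).trans h2
  obtain ⟨s', rfl⟩ := hdvd
  set w := y ^ (-s') with hw
  have hwp : w ^ p ^ j = (z ^ p ^ j)⁻¹ := by
    rw [hw, ← zpow_natCast, ← zpow_mul, Nat.cast_pow, neg_mul, zpow_neg, mul_comm, hs]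
  have hwo : Odd (orderOf w) := hyo.of_dvd_nat (orderOf_dvd_of_mem_zpowers (zpow_mem (mem_zpowers y) _))
  have hwt : w * t = t * w := ((show Commute y t from hyt).zpow_left _).eq
  obtain ⟨hd1, hd2⟩ := h.commutator_mem ht hwo hzo hwt hzt
  set c := z * w * z⁻¹ * w⁻¹ with hc
  have hcz : Commute c z := by
    obtain ⟨i, hi⟩ := mem_zpowers_iff.1 hd2
    rw [← hi]; exact (Commute.refl z).zpow_left i
  have hcw : Commute c w := by
    obtain ⟨i, hi⟩ := mem_zpowers_iff.1 hd1
    rw [← hi]; exact (Commute.refl w).zpow_left i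
  have hzw : z * w = w * z * c := by
    rw [mul_assoc w z c, ← hcz.eq, ← mul_assoc, ← hcw.eq, hc]; group
  have hcp : c ^ p ^ j = 1 := by
    have hzj : ∀ i : ℕ, z ^ i * w = w * z ^ i * c ^ i := by
      intro i
      induction i with
      | zero => simp
      | succ i ih =>
        calc z ^ (i + 1) * w = z * (z ^ i * w) := by rw [pow_succ']; group
          _ = (z * w) * z ^ i * c ^ i := by rw [ih]; group
          _ = w * z * (c * z ^ i) * c ^ i := by rw [hzw]; group
          _ = w * z * (z ^ i * c) * c ^ i := by rw [(hcz.pow_right i).eq]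
          _ = w * z ^ (i + 1) * c ^ (i + 1) := by rw [pow_succ', pow_succ']; group
    have hcomm : Commute (z ^ p ^ j) w := by
      rw [← inv_inv (z ^ p ^ j), ← hwp]; exact ((Commute.refl w).pow_left _).inv_left
    exact mul_eq_left.1 ((hzj (p ^ j)).symm.trans hcomm.eq)
  set z' := w * z with hz'
  have hz'pow : z' ^ p ^ j = 1 := by
    have hchoose : p ^ j ∣ (p ^ j).choose 2 := by
      rw [Nat.choose_two_right]
      obtain ⟨r, hr⟩ : 2 ∣ p ^ j - 1 := by
        obtain ⟨r, hr⟩ := (hpo.pow : Odd (p ^ j)); exact ⟨r, by omega⟩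
      rw [hr, mul_left_comm, Nat.mul_div_cancel_left _ two_pos]
      exact dvd_mul_right _ _
    obtain ⟨r, hr⟩ := hchoose
    rw [hz', mul_pow_of_comm hzw hcw hcz, hwp, inv_mul_cancel, one_mul, hr, pow_mul, hcp, one_pow]
  have hz'o : Odd (orderOf z') := (hpo.pow (n := j)).of_dvd_nat (orderOf_dvd_of_pow_eq_one hz'pow)
  have hz't : z' * t = t * z' := ((show Commute w t from hwt).mul_left hzt).eq
  obtain ⟨he1, he2⟩ := h.commutator_mem ht hyo hz'o hyt hz't
  have hyw : Commute y w := (Commute.refl y).zpow_right _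
  suffices hyz' : Commute y z' by
    rw [show z = w⁻¹ * z' by rw [hz', inv_mul_cancel_left]]
    exact hyw.inv_right.mul_right hyz'
  obtain ⟨i, hi⟩ := mem_zpowers_iff.1 he2
  -- a power of `z'` in `⟨y⟩` is trivial
  have hzi : z ^ i ∈ zpowers y := by
    have hi' : z' ^ (i % ((p ^ j : ℕ) : ℤ)) = z' ^ i := (zpow_eq_zpow_iff_modEq.2
      ((Int.mod_modEq i _).of_dvd (Int.natCast_dvd_natCast.2 (orderOf_dvd_of_pow_eq_one hz'pow))))
    obtain ⟨k, hk⟩ := Int.eq_ofNat_of_zero_le
      (Int.emod_nonneg i (Int.natCast_ne_zero.2 (pow_ne_zero j hp.ne_zero)))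
    rw [hk, zpow_natCast, hi, hz', mul_pow_of_comm hzw hcw hcz] at hi'
    have hwy : w ∈ zpowers y := zpow_mem (mem_zpowers y) _
    have hcy : c ∈ zpowers y := (zpowers_le.2 hwy) hd1
    have h1 : z ^ k ∈ zpowers y := by
      have := mul_mem (inv_mem (pow_mem hwy k)) (mul_mem (hi' ▸ he1) (inv_mem (pow_mem hcy (k.choose 2))))
      rwa [mul_inv_cancel_right, inv_mul_cancel_left] at this
    rw [← Int.emod_add_ediv_mul i ((p ^ j : ℕ) : ℤ), hk, zpow_add, zpow_natCast, mul_comm (i / _), zpow_mul,
      zpow_natCast]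
    exact mul_mem h1 (zpow_mem hj _)
  have hdvd' : ((p ^ j : ℕ) : ℤ) ∣ i := by
    obtain ⟨a, haj, ha⟩ := (Nat.dvd_prime_pow hp).1 (Int.natCast_dvd_natCast.1
      (show ((Int.gcd ((p ^ j : ℕ) : ℤ) i : ℕ) : ℤ) ∣ ((p ^ j : ℕ) : ℤ) from Int.gcd_dvd_left _ _))
    have hmem : z ^ p ^ a ∈ zpowers y := by
      rw [← ha, ← zpow_natCast, Int.gcd_eq_gcd_ab, zpow_add, zpow_mul, zpow_mul, zpow_natCast]
      exact mul_mem (zpow_mem hj _) (zpow_mem hzi _)
    have : j ≤ a := Nat.find_le hmem
    have haj' : a = j := le_antisymm haj this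
    subst haj'
    rw [← ha]; exact Int.gcd_dvd_right _ _
  have h0 : z' ^ i = 1 := orderOf_dvd_iff_zpow_eq_one.1
    ((Int.natCast_dvd_natCast.2 (orderOf_dvd_of_pow_eq_one hz'pow)).trans hdvd')
  rw [hi] at h0
  exact (show z' * y = y * z' by rwa [mul_inv_eq_one, mul_inv_eq_iff_eq_mul] at h0).symm

/-- Elements of odd order commuting with an involution commute. -/
theorem Hyp.comm_odd {t : G} (ht : orderOf t = 2) : ∀ {y z : G}, Odd (orderOf y) → Odd (orderOf z) →
    y * t = t * y → z * t = t * z → Commute y z := by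
  -- first `z` of prime power order, then reduce to it
  have split : ∀ (z : G), (∀ (p n : ℕ), p.Prime → orderOf z ≠ 1 → orderOf z = p ^ n → False) →
      orderOf z = 1 ∨ ∃ a b : ℕ, 1 < a ∧ 1 < b ∧ a.Coprime b ∧ orderOf z = a * b := by
    intro z hz
    by_cases h1 : orderOf z = 1
    · exact Or.inl h1
    · right
      obtain ⟨p, hp, hpd⟩ := Nat.exists_prime_and_dvd h1
      obtain ⟨n, r, hr, hn⟩ := Nat.exists_eq_pow_mul_and_not_dvd (orderOf_pos z).ne' p hp.ne_one
      have hn0 : n ≠ 0 := fun e => hr (by rw [e, pow_zero, one_mul] at hn; rwa [hn] at hpd)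
      have hr1 : r ≠ 1 := fun e => hz p n hp h1 (by rw [hn, e, mul_one])
      have hr0 : r ≠ 0 := fun e => hr (e ▸ dvd_zero p)
      exact ⟨p ^ n, r, Nat.one_lt_pow hn0 hp.one_lt, by omega,
        (Nat.Coprime.pow_left n (hp.coprime_iff_not_dvd.2 hr)), hn⟩
  have key : ∀ N : ℕ, ∀ y z : G, orderOf y + orderOf z = N → Odd (orderOf y) → Odd (orderOf z) →
      y * t = t * y → z * t = t * z → Commute y z := by
    intro N
    induction N using Nat.strong_induction_on with
    | _ N ih =>
      intro y z hN hy hz hyt hzt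
      by_cases hpz : ∃ q n, q.Prime ∧ orderOf z ≠ 1 ∧ orderOf z = q ^ n
      · by_cases hpy : ∃ p m, p.Prime ∧ orderOf y ≠ 1 ∧ orderOf y = p ^ m
        · obtain ⟨q, n, hq, hz1, hzo⟩ := hpz
          obtain ⟨p, m, hp, hy1, hyo⟩ := hpy
          by_cases hpq : p = q
          · subst hpq
            have hp2 : p ≠ 2 := fun e => by
              rw [hyo, e] at hy
              rcases m with _ | m
              · exact hy1 (by rw [hyo, pow_zero])
              · exact (Nat.not_odd_iff_even.2 (even_iff_two_dvd.2 (dvd_pow_self 2 (by omega)))) hy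
            rcases Nat.le_total n m with hle | hle
            · exact h.comm_prime_pow ht hp hp2 hyo hzo hle hyt hzt
            · exact (h.comm_prime_pow ht hp hp2 hzo hyo hle hzt hyt).symm
          · obtain ⟨h1, h2⟩ := h.commutator_mem ht hy hz hyt hzt
            have hd : orderOf (z * y * z⁻¹ * y⁻¹) ∣ 1 := by
              rw [← show Nat.gcd (p ^ m) (q ^ n) = 1 from ((Nat.coprime_primes hp hq).2 hpq).pow m n]
              exact Nat.dvd_gcd (hyo ▸ orderOf_dvd_of_mem_zpowers h1) (hzo ▸ orderOf_dvd_of_mem_zpowers h2)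
            have h0 := orderOf_eq_one_iff.1 (Nat.dvd_one.1 hd)
            exact (show z * y = y * z by rwa [mul_inv_eq_one, mul_inv_eq_iff_eq_mul] at h0).symm
        · push Not at hpy
          rcases split y (fun p m hp h1 e => hpy p m hp h1 e) with h1 | ⟨a, b, ha, hb, hab, hyo⟩
          · rw [orderOf_eq_one_iff.1 h1]; exact Commute.one_left z
          · have hd1 : orderOf (y ^ a) = b := by
              rw [orderOf_pow' y (by omega), hyo, Nat.gcd_eq_right (dvd_mul_right a b), Nat.mul_div_cancel_left _ (by omega)]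
            have hd2 : orderOf (y ^ b) = a := by
              rw [orderOf_pow' y (by omega), hyo, Nat.gcd_eq_right (dvd_mul_left b a), Nat.mul_div_cancel _ (by omega)]
            have hb' : b < a * b := lt_mul_left (by omega) ha
            have ha' : a < a * b := lt_mul_right (by omega) hb
            have c1 := ih _ (show orderOf (y ^ a) + orderOf z < N by omega) (y ^ a) z rfl
              (hy.of_dvd_nat (orderOf_pow_dvd a)) hz ((show Commute y t from hyt).pow_left a).eq hzt
            have c2 := ih _ (show orderOf (y ^ b) + orderOf z < N by omega) (y ^ b) z rfl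
              (hy.of_dvd_nat (orderOf_pow_dvd b)) hz ((show Commute y t from hyt).pow_left b).eq hzt
            have e : y = (y ^ a) ^ Nat.gcdA a b * (y ^ b) ^ Nat.gcdB a b := by
              rw [← zpow_natCast, ← zpow_natCast, ← zpow_mul, ← zpow_mul, ← zpow_add, ← Nat.gcd_eq_gcd_ab,
                hab.gcd_eq_one, Nat.cast_one, zpow_one]
            rw [e]
            exact (c1.zpow_left _).mul_left (c2.zpow_left _)
      · push Not at hpz
        rcases split z (fun p m hp h1 e => hpz p m hp h1 e) with h1 | ⟨a, b, ha, hb, hab, hzo⟩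
        · rw [orderOf_eq_one_iff.1 h1]; exact Commute.one_right y
        · have hd1 : orderOf (z ^ a) = b := by
            rw [orderOf_pow' z (by omega), hzo, Nat.gcd_eq_right (dvd_mul_right a b), Nat.mul_div_cancel_left _ (by omega)]
          have hd2 : orderOf (z ^ b) = a := by
            rw [orderOf_pow' z (by omega), hzo, Nat.gcd_eq_right (dvd_mul_left b a), Nat.mul_div_cancel _ (by omega)]
          have hb' : b < a * b := lt_mul_left (by omega) ha
          have ha' : a < a * b := lt_mul_right (by omega) hb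
          have c1 := ih _ (show orderOf y + orderOf (z ^ a) < N by omega) y (z ^ a) rfl hy
            (hz.of_dvd_nat (orderOf_pow_dvd a)) hyt ((show Commute z t from hzt).pow_left a).eq
          have c2 := ih _ (show orderOf y + orderOf (z ^ b) < N by omega) y (z ^ b) rfl hy
            (hz.of_dvd_nat (orderOf_pow_dvd b)) hyt ((show Commute z t from hzt).pow_left b).eq
          have e : z = (z ^ a) ^ Nat.gcdA a b * (z ^ b) ^ Nat.gcdB a b := by
            rw [← zpow_natCast, ← zpow_natCast, ← zpow_mul, ← zpow_mul, ← zpow_add, ← Nat.gcd_eq_gcd_ab,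
              hab.gcd_eq_one, Nat.cast_one, zpow_one]
          rw [e]
          exact (c1.zpow_right _).mul_right (c2.zpow_right _)
  exact @fun y z hy hz hyt hzt => key _ y z rfl hy hz hyt hzt

end CfsgLib.NormPSL
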