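import Cfsg.Agent.Lib.NormPSL.Inverting
import Cfsg.Agent.Lib.Coprime.UniqueOrderP
import Cfsg.Agent.S3224
import Cfsg.Agent.S0508

/-!
# The simple case with inverting involutions: dihedral Sylow 2-subgroups
-/

set_option autoImplicit false
set_option linter.unusedSectionVars false
set_option linter.style.haveILetI false

namespace CfsgLib.NormPSL

open Subgroup

variable {G : Type*} [Group G] [Finite G]

theorem not_quasiDihedral_sub (h : Hyp G) (H : Subgroup G) : ¬ Cfsg.IsQuasiDihedral H := by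
  rintro ⟨n, hn, -, x, y, hx, hy, hxy⟩
  have h' := h.of_injective H.subtype H.subtype_injective
  set N := 2 ^ (n - 1) with hN
  have hN2 : 2 ^ n = 2 * N := by rw [hN, ← pow_succ', Nat.sub_add_cancel (by omega)]
  have hN4 : 4 ≤ N := le_trans (by norm_num) (Nat.pow_le_pow_right two_pos (by omega : 2 ≤ n - 1))
  rw [hN2] at hx
  set z := x ^ N with hz
  have hzo : orderOf z = 2 := by
    rw [hz, orderOf_pow' x (by omega), hx, Nat.gcd_eq_right (dvd_mul_left N 2), Nat.mul_div_cancel _ (by omega)]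
  have hy2 : y * y = 1 := invol_sq hy
  have hg2 : (x * y) * (x * y) = z := by
    calc x * y * (x * y) = x * (y * x * y⁻¹) * (y * y) := by group
      _ = x ^ N := by rw [hxy, hy2, mul_one, ← pow_succ']; congr 1; omega
  have hfix := h'.fix (x * y) z x hzo ⟨2, by show (x * y) ^ (2 : ℤ) = z; rw [zpow_two, hg2]⟩
    ((Commute.refl x).pow_right N).eq
  obtain ⟨i, hi⟩ := mem_zpowers_iff.1 hfix
  -- `y x⁻¹ y = x ^ -(N-1)`
  have hyx : y * x⁻¹ * y⁻¹ = (x ^ (N - 1))⁻¹ := by rw [← hxy]; group
  have hconj : x * (x * y) * x⁻¹ = x * x * (x ^ (N - 1))⁻¹ * y := by rw [← hyx]; group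
  rw [hconj] at hi
  have hyne : ∀ j : ℤ, y ≠ x ^ j := by
    intro j e
    have h1 : y * x * y⁻¹ = x := by
      rw [e, ((Commute.refl x).zpow_left j).eq, mul_inv_cancel_right]
    rw [hxy] at h1
    have h2 : x ^ (N - 1) = x ^ 1 := by rw [pow_one]; exact h1
    rw [pow_eq_pow_iff_modEq, hx, Nat.ModEq, Nat.mod_eq_of_lt (by omega), Nat.mod_eq_of_lt (by omega)] at h2
    omega
  obtain ⟨j, rfl⟩ | ⟨j, rfl⟩ := Int.even_or_odd i
  · rw [← two_mul, zpow_mul, zpow_two, hg2, hz] at hi
    have hyx' : y ∈ zpowers x := by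
      have := mul_mem (inv_mem (mul_mem (mul_mem (mem_zpowers x) (mem_zpowers x))
        (inv_mem (pow_mem (mem_zpowers x) (N - 1))))) (hi ▸ zpow_mem (pow_mem (mem_zpowers x) N) j)
      rwa [inv_mul_cancel_left] at this
    obtain ⟨k, hk⟩ := mem_zpowers_iff.1 hyx'
    exact hyne k hk.symm
  · rw [zpow_add_one, zpow_mul, zpow_two, hg2, hz, ← zpow_natCast x N, ← zpow_mul, ← mul_assoc] at hi
    have h3 := mul_right_cancel hi
    rw [← zpow_two, ← zpow_natCast x (N - 1), ← zpow_neg, ← zpow_add, ← zpow_add_one,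
      zpow_eq_zpow_iff_modEq, hx, Int.modEq_iff_dvd] at h3
    have h4 : ((N : ℕ) : ℤ) ∣ 2 := by
      have h5 := dvd_trans (Int.natCast_dvd_natCast.2 (dvd_mul_left N 2)) h3
      rw [Nat.cast_sub (by omega : 1 ≤ N)] at h5
      rw [show (2 : ℤ) + -((N : ℤ) - ((1 : ℕ) : ℤ)) - ((N : ℤ) * j + 1) = 2 + (N : ℤ) * (-(1 + j)) by push_cast; ring] at h5
      exact (dvd_add_left (dvd_mul_right _ _)).1 h5
    have := Int.le_of_dvd (by norm_num) h4
    omega

variable [IsSimpleGroup G] (h : Hyp G)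
include h

theorem Hyp.sq_centr (hna : ¬ IsMulCommutative G) {t x : G} (ht : orderOf t = 2) (hA : HasA t)
    (hx : IsTwo x) (hxt : x * t = t * x) : Centr (x ^ 2) t :=
  by_contra fun e => h.false_of_order_four hna ht hA hx hxt e

/-- In a Sylow 2-subgroup of `C(t)` containing the inverting `u`, an element centralizes or becomes
centralizing after multiplication by `u`. -/
theorem Hyp.centr_or_mul (hna : ¬ IsMulCommutative G) {t u : G} {S : Subgroup G} (ht : orderOf t = 2)
    (hA : HasA t) (hS : IsSylC t S) (hui : Inverts u t) {s : G} (hs : s ∈ S) :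
    Centr s t ∨ Centr (s * u) t := by
  by_cases hc : Centr s t
  · exact Or.inl hc
  · exact Or.inr (centr_mul_of_inverts (h.invol_of_sq_centr ht hA (isTwo_of_mem hS.two hs) (hS.le s hs) hc
      (h.sq_centr hna ht hA (isTwo_of_mem hS.two hs) (hS.le s hs))).2 hui)

/-- `t` is the only involution with its centralizer. -/
theorem Hyp.sameC_unique (hna : ¬ IsMulCommutative G) {t u v : G} (ht : orderOf t = 2) (hA : HasA t)
    (hu : orderOf u = 2) (hut : u * t = t * u) (hui : Inverts u t) (hv : orderOf v = 2) (hvt : SameC v t) :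
    v = t := by
  by_contra hne
  obtain ⟨S, hS, -⟩ := exists_isSylC (t := t) (P := ⊥) IsPGroup.of_bot (fun x hx => by simp [mem_bot.1 hx])
  obtain ⟨T, hST⟩ := hS.two.exists_le_sylow
  have hTt := h.sylow_le_of_two ht hA hv hvt hne hS T hST
  have hT := sylow_isSylC T hTt
  obtain ⟨w, hwT, hwo, hwi⟩ := h.exists_inverting_mem hT hu hut hui
  let Q : Subgroup G :=
    { carrier := {q | q ∈ (T : Subgroup G) ∧ Centr q t}
      one_mem' := ⟨one_mem _, centr_one t⟩
      mul_mem' := fun ha hb => ⟨mul_mem ha.1 hb.1, ha.2.mul hb.2⟩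
      inv_mem' := fun ha => ⟨inv_mem ha.1, ha.2.inv⟩ }
  have hQi : Q.relIndex (T : Subgroup G) = 2 := by
    refine Subgroup.relIndex_eq_two_iff.2 ⟨w, hwT, fun b hb => ?_⟩
    rcases h.centr_or_mul hna ht hA hT hwi hb with e | e
    · exact Or.inr ⟨⟨hb, e⟩, fun e' => h.not_centr_of_inverts hA hwi (by
        have := e.inv.mul e'.2
        rwa [inv_mul_cancel_left] at this)⟩
    · exact Or.inl ⟨⟨mul_mem hb hwT, e⟩, fun e' => h.not_centr_of_inverts hA hwi (by
        have := e'.2.inv.mul e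
        rwa [inv_mul_cancel_left] at this)⟩
  obtain ⟨M, hM, hM2, -⟩ := CfsgLib.Fusion.thompson_transfer (Q := Q) T (fun q hq => hq.1) hQi
    (by rw [pow_two]; exact invol_sq hwo : w ^ 2 = 1) fun g hg => by
      have hgo : orderOf (g * w * g⁻¹) = 2 := by rw [orderOf_conj, hwo]
      have hs := h.sameC_of_centr ht hgo (hTt _ hg.1) hA hg.2
      refine h.not_hasA_of_two ht hA hv hvt hne hwo (hTt w hwT) hwi ?_
      have := (hs.hasA hA).conj g⁻¹
      rwa [show g⁻¹ * (g * w * g⁻¹) * g⁻¹⁻¹ = w by group] at this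
  exact CfsgLib.CIT.index_ne_two_of_simple hna M hM hM2

/-- The involutions of `S` commuting with an inverting `u` are `t`, `u`, `t u`. -/
theorem Hyp.four_of_commute (hna : ¬ IsMulCommutative G) {t u s : G} {S : Subgroup G} (ht : orderOf t = 2)
    (hA : HasA t) (hS : IsSylC t S) (hu : orderOf u = 2) (huS : u ∈ S) (hui : Inverts u t) (hs : s ∈ S)
    (hsu : s * u = u * s) : s = 1 ∨ s = t ∨ s = u ∨ s = t * u := by
  have key : ∀ a ∈ S, Centr a t → a * u = u * a → a = 1 ∨ a = t := by
    intro a ha hac hau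
    have h1 := h.inverts_part ht hA hS hu huS hui ha hac
    rw [← hau, mul_inv_cancel_right] at h1
    by_cases ha1 : a = 1
    · exact Or.inl ha1
    · have hao : orderOf a = 2 := orderOf_eq_prime (by rw [pow_two]; exact mul_eq_one_iff_eq_inv.2 h1) ha1
      exact Or.inr (h.sameC_unique hna ht hA hu (hS.le u huS) hui hao
        (h.sameC_of_centr ht hao (hS.le a ha) hA hac))
  rcases h.centr_or_mul hna ht hA hS hui hs with e | e
  · rcases key s hs e hsu with e' | e'
    · exact Or.inl e'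
    · exact Or.inr (Or.inl e')
  · rcases key (s * u) (mul_mem hs huS) e ((show Commute s u from hsu).mul_left (Commute.refl u)).eq with e' | e'
    · exact Or.inr (Or.inr (Or.inl (by rw [mul_eq_one_iff_eq_inv.1 e', invol_inv hu])))
    · refine Or.inr (Or.inr (Or.inr ?_))
      rw [← e', mul_assoc, invol_sq hu, mul_one]

/-- Some Sylow 2-subgroup is dihedral. -/
theorem Hyp.dihedral_sylow (hna : ¬ IsMulCommutative G) {t u : G} (ht : orderOf t = 2) (hA : HasA t)
    (hu : orderOf u = 2) (hut : u * t = t * u) (hui : Inverts u t) :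
    ∃ (T : Sylow 2 G) (n : ℕ), 2 ≤ n ∧ Nonempty ((T : Subgroup G) ≃* DihedralGroup n) := by
  classical
  haveI : Fact (Nat.Prime 2) := ⟨Nat.prime_two⟩
  obtain ⟨S, hS, -⟩ := exists_isSylC (t := t) (P := ⊥) IsPGroup.of_bot (fun x hx => by simp [mem_bot.1 hx])
  obtain ⟨T, hST⟩ := hS.two.exists_le_sylow
  obtain ⟨v, hvS, hvo, hvi⟩ := h.exists_inverting_mem hS hu hut hui
  have htS := hS.self_mem ht
  have htv : t ≠ v := fun e => h.not_sameC_of_inverts hA hvi (e ▸ SameC.refl t)
  -- an involution of `T` whose centralizer in `T` is `{1, t, v, t v}`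
  obtain ⟨w, hwT, hwo, hw⟩ : ∃ w ∈ (T : Subgroup G), orderOf w = 2 ∧ ∀ x ∈ (T : Subgroup G),
      (x * w = w * x ↔ x = 1 ∨ x = t ∨ x = v ∨ x = t * v) := by
    have hc4 : ∀ x, (x = 1 ∨ x = t ∨ x = v ∨ x = t * v) → x * t = t * x ∧ x * v = v * x := by
      intro x hx
      have hvt : Commute v t := hS.le v hvS
      rcases hx with rfl | rfl | rfl | rfl
      · exact ⟨by simp, by simp⟩
      · exact ⟨rfl, hvt.symm.eq⟩
      · exact ⟨hvt.eq, rfl⟩
      · exact ⟨((Commute.refl t).mul_left hvt).eq, (hvt.symm.mul_left (Commute.refl v)).eq⟩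
    obtain ⟨z, hzT, hz, hzc⟩ := exists_central_invol T ht (hST htS)
    have hzS : z ∈ S := hS.mem_of_sylow T hST hzT (hzc t (hST htS)).symm
    rcases h.sameC_or_inverts ht hz (hS.le z hzS) with hs | hs
    · -- `T` centralizes `t`
      have hzt := h.sameC_unique hna ht hA hvo (hS.le v hvS) hvi hz hs
      subst hzt
      exact ⟨v, hST hvS, hvo, fun x hx => ⟨fun hxv => h.four_of_commute hna ht hA hS hvo hvS hvi
        (hS.mem_of_sylow T hST hx (hzc x hx)) hxv, fun e => (hc4 x e).2⟩⟩
    · -- `S` is a four-group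
      have hall : ∀ x ∈ S, x = 1 ∨ x = t ∨ x = z ∨ x = t * z := fun x hx =>
        h.four_of_commute hna ht hA hS hz hzS hs hx (hzc x (hST hx))
      refine ⟨t, hST htS, ht, fun x hx => ⟨fun hxt => ?_, fun e => (hc4 x e).1⟩⟩
      have htz : t * (t * z) = z := by rw [← mul_assoc, invol_sq ht, one_mul]
      rcases hall v hvS with e | e | e | e
      · exact absurd e (invol_ne_one hvo)
      · exact absurd e.symm htv
      · rcases hall x (hS.mem_of_sylow T hST hx hxt) with r | r | r | r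
        · exact Or.inl r
        · exact Or.inr (Or.inl r)
        · exact Or.inr (Or.inr (Or.inl (by rw [r, e])))
        · exact Or.inr (Or.inr (Or.inr (by rw [r, e])))
      · rcases hall x (hS.mem_of_sylow T hST hx hxt) with r | r | r | r
        · exact Or.inl r
        · exact Or.inr (Or.inl r)
        · exact Or.inr (Or.inr (Or.inr (by rw [r, e, htz])))
        · exact Or.inr (Or.inr (Or.inl (by rw [r, e])))
  have htv1 : t * v ≠ 1 := fun e => htv ((mul_eq_one_iff_eq_inv.1 e).trans (invol_inv hvo))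
  have hcard : Nat.card (centralizer ({(⟨w, hwT⟩ : (T : Subgroup G))} : Set (T : Subgroup G))) = 4 := by
    let F : Finset (T : Subgroup G) :=
      {1, ⟨t, hST htS⟩, ⟨v, hST hvS⟩, ⟨t * v, mul_mem (hST htS) (hST hvS)⟩}
    rw [Nat.subtype_card F (fun x => by
      rw [mem_centralizer_singleton_iff, ← Subtype.coe_inj, Subgroup.coe_mul, Subgroup.coe_mul, hw x.1 x.2]
      simp only [F, Finset.mem_insert, Finset.mem_singleton, Subtype.ext_iff, Subgroup.coe_one])]
    have n1 := invol_ne_one ht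
    have n2 := invol_ne_one hvo
    have k1 : t ≠ t * v := fun e => n2 (mul_eq_left.1 e.symm)
    have k2 : v ≠ t * v := fun e => n1 (mul_eq_right.1 e.symm)
    have m1 : (1 : G) ≠ t := n1.symm
    have m2 : (1 : G) ≠ v := n2.symm
    have m3 : (1 : G) ≠ t * v := htv1.symm
    rw [Finset.card_insert_of_notMem (by
        rw [Finset.mem_insert, Finset.mem_insert, Finset.mem_singleton]
        rintro (e | e | e) <;> exact absurd (congrArg Subtype.val e) (by assumption)),
      Finset.card_insert_of_notMem (by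
        rw [Finset.mem_insert, Finset.mem_singleton]
        rintro (e | e) <;> exact absurd (congrArg Subtype.val e) (by assumption)),
      Finset.card_insert_of_notMem (by
        rw [Finset.mem_singleton]
        intro e; exact absurd (congrArg Subtype.val e) k2),
      Finset.card_singleton]
  rcases Cfsg.Agent.S3224.result T.2 (⟨w, hwT⟩ : (T : Subgroup G)) (by rw [Subgroup.orderOf_mk, hwo]) hcard with
    ⟨n, ⟨e⟩⟩ | hq | h4
  · refine ⟨T, n, ?_, ⟨e⟩⟩
    have h4 : 4 ≤ Nat.card (T : Subgroup G) := hcard ▸ Subgroup.card_le_card_group _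
    rw [Nat.card_congr e.toEquiv, DihedralGroup.nat_card] at h4
    omega
  · exact absurd hq (not_quasiDihedral_sub h _)
  · refine ⟨T, 2, le_rfl, ?_⟩
    have htop := (Subgroup.card_eq_iff_eq_top _).1 (hcard.trans h4.symm)
    have hexp : Monoid.exponent (T : Subgroup G) = 2 := by
      haveI : Nontrivial (T : Subgroup G) := Finite.one_lt_card_iff_nontrivial.1 (by rw [h4]; norm_num)
      refine Monoid.exponent_eq_prime_iff Nat.prime_two |>.2 fun x hx1 => orderOf_eq_prime ?_ hx1
      refine Subtype.ext ?_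
      rw [pow_two, Subgroup.coe_mul, Subgroup.coe_one]
      have hx := mem_centralizer_singleton_iff.1 (htop ▸ mem_top x :
        x ∈ centralizer ({(⟨w, hwT⟩ : (T : Subgroup G))} : Set (T : Subgroup G)))
      have hvt : Commute t v := (hS.le v hvS).symm
      rcases (hw x.1 x.2).1 (congrArg Subtype.val hx) with r | r | r | r <;> rw [r]
      · exact one_mul 1
      · exact invol_sq ht
      · exact invol_sq hvo
      · rw [← pow_two, hvt.mul_pow, pow_two, pow_two, invol_sq ht, invol_sq hvo, one_mul]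
    haveI : IsKleinFour (T : Subgroup G) := ⟨h4, hexp⟩
    exact IsKleinFour.nonempty_mulEquiv

/-- The conclusion when every involution with `A ≠ 1` has an inverting involution. -/
theorem Hyp.psl_of_inverting (hna : ¬ IsMulCommutative G)
    (hno : ∀ t : G, orderOf t = 2 → HasA t → ∃ u : G, orderOf u = 2 ∧ u * t = t * u ∧ Inverts u t)
    {t : G} (ht : orderOf t = 2) (hA : HasA t) : IsPSLTwo G := by
  classical
  haveI : Fact (Nat.Prime 2) := ⟨Nat.prime_two⟩
  obtain ⟨u, hu, hut, hui⟩ := hno t ht hA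
  obtain ⟨T, n, hn, ⟨e⟩⟩ := h.dihedral_sylow hna ht hA hu hut hui
  obtain ⟨g, hg⟩ := exists_conj_mem_sylow T (IsTwo.of_invol ht)
  obtain ⟨z, hzT, hz, hzc⟩ := exists_central_invol T (t := g * t * g⁻¹) (by rw [orderOf_conj, ht]) hg
  set C := centralizer ({z} : Set G) with hC
  set O := (Cfsg.oddCore C).map C.subtype with hO
  let A : Subgroup C :=
    { carrier := {x | InA z (x : G)}
      one_mem' := InA.one z
      mul_mem' := fun hx hy => h.inA_mul hz hx hy
      inv_mem' := fun hx => hx.inv }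
  haveI : A.Normal := ⟨fun x hx c => hx.conj_of_comm (mem_centralizer_singleton_iff.1 c.2)⟩
  have hmem : ∀ y, y ∈ O ↔ InA z y := by
    intro y
    constructor
    · rintro ⟨y', hy', rfl⟩
      refine ⟨?_, mem_centralizer_singleton_iff.1 y'.2⟩
      rw [show (C.subtype y') = (y' : G) from rfl, Subgroup.orderOf_coe]
      refine (Nat.coprime_two_right.1 (CfsgLib.Coprime.pPrimeCore_coprime (G := C) Nat.prime_two)).of_dvd_nat ?_
      exact Subgroup.orderOf_dvd_natCard (Cfsg.oddCore C) hy'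
    · intro hy
      refine ⟨⟨y, mem_centralizer_singleton_iff.2 hy.2⟩, ?_, rfl⟩
      refine CfsgLib.Coprime.le_pPrimeCore_of_not_dvd Nat.prime_two (N := A) (fun hd => ?_)
        (show (⟨y, mem_centralizer_singleton_iff.2 hy.2⟩ : C) ∈ A from hy)
      obtain ⟨w, hw⟩ := exists_prime_orderOf_dvd_card' 2 hd
      have h1 : Odd (orderOf ((w : C) : G)) := w.2.1
      rw [Subgroup.orderOf_coe, Subgroup.orderOf_coe, hw] at h1
      exact absurd h1 (by decide)
  have hcO : ∀ s : G, s ∈ centralizer (O : Set G) ↔ Centr s z := fun s =>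
    ⟨fun hs y hy => (mem_centralizer_iff.1 hs y ((hmem y).2 hy)).symm,
      fun hs => mem_centralizer_iff.2 fun y hy => (hs y ((hmem y).1 hy)).symm⟩
  have hTz : IsSylC z (T : Subgroup G) := sylow_isSylC T hzc
  have hAz : O ≠ ⊥ → HasA z := fun hne => by
    obtain ⟨y, hy, hy1⟩ := (Subgroup.bot_or_exists_ne_one O).resolve_left hne
    exact ⟨y, hy1, (hmem y).1 hy⟩
  have hres := Cfsg.Agent.S0508.result T n hn ⟨e⟩ z hz hzT hzc O rfl
    (fun hne => ?_) (fun s hs hsc y hy => ?_) (fun Y hY hne g' hg' => ?_)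
  · obtain ⟨F, iF, iF', hodd, hiso⟩ := hres
    refine ⟨F, iF, iF', ?_, hiso⟩
    by_contra hle
    push Not at hle
    obtain ⟨e'⟩ := hiso
    have h3 : Fintype.card F = 3 := by
      have h2 := Fintype.one_lt_card (α := F)
      rcases Nat.lt_or_ge (Fintype.card F) 3 with hlt | hge
      · rw [show Fintype.card F = 2 by omega] at hodd; exact absurd hodd (by decide)
      · omega
    have hcard : Nat.card G = 12 := by
      have h2 := CfsgLib.Classical.card_psl2 (F := F)
      rw [h3, ← Nat.card_congr e'.toEquiv] at h2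
      norm_num at h2
      omega
    exact false_of_card_twelve hna hcard
  · obtain ⟨u', hu', hu't, hu'i⟩ := hno z hz (hAz hne)
    obtain ⟨w, hwT, hwo, hwi⟩ := h.exists_inverting_mem hTz hu' hu't hu'i
    haveI : IsMulCommutative ((T : Subgroup G) ⊓ centralizer (O : Set G) : Subgroup G) := by
      refine ⟨⟨fun a b => Subtype.ext ?_⟩⟩
      have key : ∀ x ∈ (T : Subgroup G) ⊓ centralizer (O : Set G), w * x * w⁻¹ = x⁻¹ := fun x hx =>
        h.inverts_part hz (hAz hne) hTz hwo hwT hwi hx.1 ((hcO x).1 hx.2)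
      have h1 := key _ (mul_mem a.2 b.2)
      rw [show w * ((a : G) * b) * w⁻¹ = (w * a * w⁻¹) * (w * b * w⁻¹) by group, key _ a.2, key _ b.2,
        ← mul_inv_rev, inv_inj] at h1
      exact h1.symm
    refine ⟨?_, Subgroup.relIndex_eq_two_iff.2 ⟨w, hwT, fun b hb => ?_⟩⟩
    · refine CfsgLib.Coprime.isCyclic_of_comm_of_unique (T.2.to_le inf_le_left) fun x y hx hy hx1 => ?_
      have e1 : ∀ x : ((T : Subgroup G) ⊓ centralizer (O : Set G) : Subgroup G), x ^ 2 = 1 → x ≠ 1 → (x : G) = z := by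
        intro x hx hx1
        have hxo : orderOf (x : G) = 2 := orderOf_eq_prime
          (by rw [← SubgroupClass.coe_pow, hx]; rfl) fun e => hx1 (Subtype.ext e)
        exact h.sameC_unique hna hz (hAz hne) hwo (hzc w hwT) hwi hxo
          (h.sameC_of_centr hz hxo (hzc _ x.2.1) (hAz hne) ((hcO _).1 x.2.2))
      by_cases hy1 : y = 1
      · rw [hy1]; exact one_mem _
      · rw [show y = x from Subtype.ext ((e1 y hy hy1).trans (e1 x hx hx1).symm)]; exact mem_zpowers x
    · rcases h.centr_or_mul hna hz (hAz hne) hTz hwi hb with r | r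
      · exact Or.inr ⟨⟨hb, (hcO b).2 r⟩, fun r' => h.not_centr_of_inverts (hAz hne) hwi (by
          have := r.inv.mul ((hcO _).1 r'.2)
          rwa [inv_mul_cancel_left] at this)⟩
      · exact Or.inl ⟨⟨mul_mem hb hwT, (hcO _).2 r⟩, fun r' => h.not_centr_of_inverts (hAz hne) hwi (by
          have := ((hcO _).1 r'.2).inv.mul r
          rwa [inv_mul_cancel_left] at this)⟩
  · have hn' : ¬ Centr s z := fun r => hsc ((hcO s).2 r)
    obtain ⟨y₀, hy₀, hy₀1⟩ : ∃ y₀, InA z y₀ ∧ y₀ ≠ 1 := by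
      by_contra hcon
      push Not at hcon
      exact hn' fun a ha => by rw [hcon a ha, mul_one, one_mul]
    exact (h.invol_of_sq_centr hz ⟨y₀, hy₀1, hy₀⟩ (isTwo_of_mem T.2 hs) (hzc s hs) hn'
      (h.sq_centr hna hz ⟨y₀, hy₀1, hy₀⟩ (isTwo_of_mem T.2 hs) (hzc s hs))).2 y ((hmem y).1 hy)
  · obtain ⟨y, hyY, hy1⟩ := (Subgroup.bot_or_exists_ne_one Y).resolve_left hne
    have hAz' : HasA z := ⟨y, hy1, (hmem y).1 (hY hyY)⟩
    have hy := (hmem y).1 (hY hyY)
    have hy'' := (hmem _).1 (hY ((mem_normalizer_iff.1 hg' y).1 hyY))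
    have hz' : orderOf (g' * z * g'⁻¹) = 2 := by rw [orderOf_conj, hz]
    have hy' : InA (g' * z * g'⁻¹) (g' * y * g'⁻¹) := hy.conj
    have hs : SameC (g' * z * g'⁻¹) z := h.sameC_of_comm hz hz'
      (fun r => hy1 (conj_eq_one_iff.1 r)) hy'' hy'.2
    obtain ⟨u', hu', hu't, hu'i⟩ := hno z hz hAz'
    exact mem_centralizer_singleton_iff.2
      (mul_inv_eq_iff_eq_mul.1 (h.sameC_unique hna hz hAz' hu' hu't hu'i hz' hs))

end CfsgLib.NormPSL
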