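import Cfsg.Agent.Lib.NormPSL.Central
import Cfsg.Agent.Lib.Fusion.Transfer
import Cfsg.Agent.Lib.Fusion.Tate
import Cfsg.Agent.Lib.Coprime.Solvable

/-!
# An inverting involution: the quotient by the centralizer of the odd elements has order two
-/

set_option autoImplicit false
set_option linter.unusedSectionVars false
set_option linter.style.haveILetI false

namespace CfsgLib.NormPSL

open Subgroup

variable {G : Type*} [Group G] [Finite G]

theorem sylow_isSylC {t : G} (T : Sylow 2 G) (hT : ∀ x ∈ (T : Subgroup G), x * t = t * x) :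
    IsSylC t (T : Subgroup G) :=
  ⟨T.2, hT, fun P hP _ hle => T.3 hP hle⟩

theorem IsSylC.self_mem {t : G} {S : Subgroup G} (hS : IsSylC t S) (ht : orderOf t = 2) : t ∈ S := by
  have hp : IsPGroup 2 (zpowers t) := IsPGroup.of_card (n := 1) (by rw [Nat.card_zpowers, ht, pow_one])
  have hn : zpowers t ≤ normalizer (S : Set G) := zpowers_le.2 (mem_normalizer_iff.2 fun w => by
    constructor
    · intro hw
      rwa [← hS.le w hw, mul_inv_cancel_right]
    · intro hw
      have e := hS.le _ hw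
      have : t * w * t⁻¹ = w := by
        have h1 : t * (t * w * t⁻¹) * t⁻¹ = t * w * t⁻¹ := by rw [← e, mul_inv_cancel_right]
        exact mul_left_cancel (mul_right_cancel h1)
      rwa [this] at hw)
  have hle : ∀ x ∈ zpowers t ⊔ S, x * t = t * x := fun x hx =>
    mem_centralizer_singleton_iff.1 ((sup_le (zpowers_le.2 (mem_centralizer_singleton_iff.2 rfl))
      fun w hw => mem_centralizer_singleton_iff.2 (hS.le w hw)) hx)
  exact (hS.max _ (hp.to_sup_of_normal_right' hS.two hn) hle le_sup_right).le (mem_sup_left (mem_zpowers t))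

/-- In a proper 2-subgroup of a Sylow 2-subgroup the normalizer grows. -/
theorem exists_normalizer_notMem (T : Sylow 2 G) {S : Subgroup G} (hST : S ≤ (T : Subgroup G))
    (hne : ∃ x ∈ (T : Subgroup G), x ∉ S) :
    ∃ g ∈ (T : Subgroup G), g ∉ S ∧ g ∈ normalizer (S : Set G) := by
  haveI : Fact (Nat.Prime 2) := ⟨Nat.prime_two⟩
  haveI := T.2.isNilpotent
  set S' := S.subgroupOf (T : Subgroup G)
  have hlt : S' < ⊤ := by
    rw [lt_top_iff_ne_top]
    intro e
    obtain ⟨x, hxT, hxS⟩ := hne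
    exact hxS (mem_subgroupOf.1 (e ▸ mem_top (⟨x, hxT⟩ : (T : Subgroup G)) : (⟨x, hxT⟩ : (T : Subgroup G)) ∈ S'))
  obtain ⟨g, hg, hgS⟩ := SetLike.exists_of_lt (Group.normalizerCondition_of_isNilpotent S' hlt)
  refine ⟨g, g.2, fun e => hgS (mem_subgroupOf.2 e), mem_normalizer_iff.2 fun w => ?_⟩
  constructor
  · intro hw
    exact mem_subgroupOf.1 ((mem_normalizer_iff.1 hg ⟨w, hST hw⟩).1 (mem_subgroupOf.2 hw))
  · intro hw
    have hwT : w ∈ (T : Subgroup G) := by
      have := mul_mem (mul_mem (inv_mem g.2) (hST hw)) g.2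
      rwa [show (g : G)⁻¹ * (g * w * (g : G)⁻¹) * g = w by group] at this
    exact mem_subgroupOf.1 ((mem_normalizer_iff.1 hg ⟨w, hwT⟩).2 (mem_subgroupOf.2 hw))

theorem centr_one (t : G) : Centr 1 t := fun y _ => by simp

theorem Centr.mul {t a b : G} (ha : Centr a t) (hb : Centr b t) : Centr (a * b) t := fun y hy => by
  rw [mul_assoc, hb y hy, ← mul_assoc, ha y hy, mul_assoc]

theorem Centr.inv {t a : G} (ha : Centr a t) : Centr a⁻¹ t := fun y hy =>
  ((show Commute a y from ha y hy).inv_left).eq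

variable (h : Hyp G)
include h

theorem Hyp.exists_inverting {t x : G} (ht : orderOf t = 2) (hA : HasA t) (hx : IsTwo x)
    (hxt : x * t = t * x) (hn : ¬ Centr x t) : ∃ u : G, orderOf u = 2 ∧ u * t = t * u ∧ Inverts u t := by
  obtain ⟨k, hk⟩ := id hx
  clear hx
  induction k generalizing x with
  | zero => exact absurd (by rw [pow_zero, pow_one] at hk; exact hk ▸ centr_one t) hn
  | succ k ih =>
    by_cases h2 : Centr (x ^ 2) t
    · obtain ⟨hxo, hxi⟩ := h.invol_of_sq_centr ht hA ⟨k + 1, hk⟩ hxt hn h2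
      exact ⟨x, hxo, hxt, hxi⟩
    · exact ih ((show Commute x t from hxt).pow_left 2).eq h2 (by rw [← pow_mul, ← pow_succ', hk])

theorem Hyp.exists_inverting_mem {t u : G} {S : Subgroup G} (hS : IsSylC t S) (hu : orderOf u = 2)
    (hut : u * t = t * u) (hi : Inverts u t) : ∃ v ∈ S, orderOf v = 2 ∧ Inverts v t := by
  obtain ⟨c, hct, hc⟩ := hS.exists_conj_mem (IsTwo.of_invol hu) hut
  refine ⟨_, hc, by rw [orderOf_conj, hu], fun y hy => ?_⟩
  have hct' : c⁻¹ * t = t * c⁻¹ := ((show Commute c t from hct).inv_left).eq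
  have h1 := hi (c⁻¹ * y * c⁻¹⁻¹) (hy.conj_of_comm hct')
  rw [inv_inv] at h1
  rw [show c * u * c⁻¹ * y * (c * u * c⁻¹)⁻¹ = c * (u * (c⁻¹ * y * c) * u⁻¹) * c⁻¹ by group, h1]
  group

/-- Elements of `S` outside the centralizer of the odd elements with square inside are inverting
involutions; an inverting involution inverts the centralizing part of `S`. -/
theorem Hyp.inverts_part {t u s : G} {S : Subgroup G} (ht : orderOf t = 2) (hA : HasA t)
    (hS : IsSylC t S) (hu : orderOf u = 2) (huS : u ∈ S) (hi : Inverts u t) (hs : s ∈ S) (hsc : Centr s t) :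
    u * s * u⁻¹ = s⁻¹ := by
  have hm : u * s ∈ S := mul_mem huS hs
  have hn : ¬ Centr (u * s) t := fun e => h.not_centr_of_inverts hA hi (by
    have := e.mul hsc.inv; rwa [mul_inv_cancel_right] at this)
  have hi' : Inverts (u * s) t := fun y hy => by
    rw [show u * s * y * (u * s)⁻¹ = u * (s * y * s⁻¹) * u⁻¹ by group, hsc y hy, mul_inv_cancel_right, hi y hy]
  have h2 : Centr ((u * s) ^ 2) t := by rw [pow_two]; exact centr_mul_of_inverts hi' hi'
  have ho := invol_sq (h.invol_of_sq_centr ht hA (isTwo_of_mem hS.two hm) (hS.le _ hm) hn h2).1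
  rw [invol_inv hu]
  exact eq_inv_of_mul_eq_one_left (by rwa [← mul_assoc] at ho)

/-- With a second involution having the centralizer of `t`, a Sylow 2-subgroup of `C(t)` is one of `G`. -/
theorem Hyp.sylow_le_of_two {t v : G} (ht : orderOf t = 2) (hA : HasA t) (hv : orderOf v = 2)
    (hvt : SameC v t) (hne : v ≠ t) {S : Subgroup G} (hS : IsSylC t S) (T : Sylow 2 G)
    (hST : S ≤ (T : Subgroup G)) : ∀ x ∈ (T : Subgroup G), x * t = t * x := by
  haveI : Fact (Nat.Prime 2) := ⟨Nat.prime_two⟩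
  by_contra hcon
  push Not at hcon
  obtain ⟨x, hxT, hxt⟩ := hcon
  obtain ⟨g, hgT, hgS, hgN⟩ := exists_normalizer_notMem T hST ⟨x, hxT, fun e => hxt (hS.le x e)⟩
  have hgt : g * t ≠ t * g := fun e => hgS (hS.mem_of_sylow T hST hgT e)
  -- the involutions of `S` with the centralizer of `t`
  have hsame : ∀ e ∈ S, orderOf e = 2 → Centr e t → SameC e t := fun e he heo hec =>
    h.sameC_of_centr ht heo (hS.le e he) hA hec
  let E : Subgroup G :=
    { carrier := {e | e ∈ S ∧ e * e = 1 ∧ Centr e t}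
      one_mem' := ⟨one_mem S, one_mul 1, centr_one t⟩
      mul_mem' := fun {a b} ha hb => by
        refine ⟨mul_mem ha.1 hb.1, ?_, ha.2.2.mul hb.2.2⟩
        have hab : Commute b a := by
          by_cases ha1 : a = 1
          · rw [ha1]; exact Commute.one_right b
          · exact ((hsame a ha.1 (orderOf_eq_prime (by rw [pow_two]; exact ha.2.1) ha1) ha.2.2) b).2 (hS.le b hb.1)
        rw [show a * b * (a * b) = a * (b * a) * b by group, hab.eq,
          show a * (a * b) * b = a * a * (b * b) by group, ha.2.1, hb.2.1, one_mul]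
      inv_mem' := fun {a} ha => by
        rw [inv_eq_of_mul_eq_one_left ha.2.1]; exact ha }
  set R := (T : Subgroup G) ⊓ normalizer (S : Set G) with hR
  have hconj : ∀ r ∈ R, ∀ e ∈ E, r * e * r⁻¹ ∈ E := by
    intro r hr e he
    by_cases he1 : e = 1
    · rw [he1, mul_one, mul_inv_cancel]; exact one_mem E
    have heo : orderOf e = 2 := orderOf_eq_prime (by rw [pow_two]; exact he.2.1) he1
    have hrS : r * e * r⁻¹ ∈ S := (mem_normalizer_iff.1 hr.2 e).1 he.1
    have hro : orderOf (r * e * r⁻¹) = 2 := by rw [orderOf_conj, heo]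
    have hAr : HasA (r * e * r⁻¹) := ((hsame e he.1 heo he.2.2).hasA hA).conj r
    refine ⟨hrS, invol_sq hro, ?_⟩
    rcases h.sameC_or_inverts ht hro (hS.le _ hrS) with hs | hs
    · exact hs.centr
    · exact absurd hAr (h.not_hasA_of_two ht hA hv hvt hne hro (hS.le _ hrS) hs)
  have hER : E ≤ R := fun e he => ⟨hST he.1, le_normalizer he.1⟩
  haveI : Group.IsNilpotent R := (T.2.to_le inf_le_left : IsPGroup 2 R).isNilpotent
  haveI : (E.subgroupOf R).Normal :=
    ⟨fun e he r => mem_subgroupOf.2 (hconj r r.2 e (mem_subgroupOf.1 he))⟩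
  have htE : t ∈ E := ⟨hS.self_mem ht, invol_sq ht, (SameC.refl t).centr⟩
  have hb : E.subgroupOf R ≠ ⊥ := by
    intro e
    have h1 : (⟨t, hER htE⟩ : R) ∈ E.subgroupOf R := mem_subgroupOf.2 htE
    rw [e, mem_bot] at h1
    exact invol_ne_one ht (congrArg Subtype.val h1)
  obtain ⟨⟨e, heR⟩, ⟨heE, hec⟩, he1⟩ := (Subgroup.bot_or_exists_ne_one (E.subgroupOf R ⊓ center R)).resolve_left
    (CfsgLib.Coprime.nilpotent_inf_center_ne_bot (G := R) (E.subgroupOf R) hb)
  have heE' : e ∈ E := mem_subgroupOf.1 heE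
  have heo : orderOf e = 2 := orderOf_eq_prime (by rw [pow_two]; exact heE'.2.1)
    fun e' => he1 (Subtype.ext e')
  have hcm : g * e = e * g := congrArg Subtype.val (mem_center_iff.1 hec ⟨g, hgT, hgN⟩)
  exact hgt ((hsame e heE'.1 heo heE'.2.2 g).1 hcm)

variable [IsSimpleGroup G]

/-- The odd elements are never moved with order four. -/
theorem Hyp.false_of_order_four (hna : ¬ IsMulCommutative G) {t x : G} (ht : orderOf t = 2) (hA : HasA t)
    (hx : IsTwo x) (hxt : x * t = t * x) (hn : ¬ Centr (x ^ 2) t) : False := by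
  classical
  haveI : Fact (Nat.Prime 2) := ⟨Nat.prime_two⟩
  -- reduce to an element of order four
  obtain ⟨x, hx, hxt, hn, h4⟩ : ∃ w : G, IsTwo w ∧ w * t = t * w ∧ ¬ Centr (w ^ 2) t ∧
      Centr ((w ^ 2) ^ 2) t := by
    obtain ⟨k, hk⟩ := id hx
    clear hx
    induction k generalizing x with
    | zero => exact absurd (by rw [pow_zero, pow_one] at hk; rw [hk, one_pow]; exact centr_one t) hn
    | succ k ih =>
      by_cases h2 : Centr ((x ^ 2) ^ 2) t
      · exact ⟨x, ⟨k + 1, hk⟩, hxt, hn, h2⟩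
      · exact ih ((show Commute x t from hxt).pow_left 2).eq h2 (by rw [← pow_mul, ← pow_succ', hk])
  obtain ⟨huo, hui⟩ := h.invol_of_sq_centr ht hA (hx.pow 2) ((show Commute x t from hxt).pow_left 2).eq hn h4
  have hut : x ^ 2 * t = t * x ^ 2 := ((show Commute x t from hxt).pow_left 2).eq
  have hxo : orderOf x = 4 := orderOf_eq_prime_pow (p := 2) (n := 1)
    (by rw [pow_one]; exact invol_ne_one huo) (by
      rw [show (2 : ℕ) ^ (1 + 1) = 2 * 2 by rfl, pow_mul, pow_two, invol_sq huo])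
  obtain ⟨S, hS, hxS'⟩ := exists_isSylC (t := t) (P := zpowers x)
    (fun w => by obtain ⟨k, hk⟩ := hx.of_mem_zpowers w.2; exact ⟨k, Subtype.ext hk⟩)
    (fun w hw => comm_of_mem_zpowers hxt hw)
  have hxS : x ∈ S := hxS' (mem_zpowers x)
  set u := x ^ 2 with hu
  have huS : u ∈ S := pow_mem hxS 2
  -- the centralizing part is elementary and central
  have hE : ∀ s ∈ S, Centr s t → s = 1 ∨ (orderOf s = 2 ∧ SameC s t) := by
    intro s hs hsc
    by_cases h1 : s = 1
    · exact Or.inl h1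
    obtain ⟨k, hk⟩ := mem_zpowers_iff.1
      (h.centr_normal ht hA (isTwo_of_mem hS.two hs) (hS.le s hs) hsc x hxt)
    have h2 := h.inverts_part ht hA hS huo huS hui hs hsc
    have h3 : u * s * u⁻¹ = s ^ (k * k) := by
      rw [hu, pow_two, show x * x * s * (x * x)⁻¹ = x * (x * s * x⁻¹) * x⁻¹ by group, ← hk,
        ← conj_zpow, ← hk, ← zpow_mul]
    have h5 : s ^ (k * k + 1) = 1 := by rw [zpow_add_one, ← h3, h2, inv_mul_cancel]
    rw [← orderOf_dvd_iff_zpow_eq_one] at h5
    obtain ⟨e, he⟩ := isTwo_of_mem hS.two hs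
    obtain ⟨j, -, hj⟩ := (Nat.dvd_prime_pow Nat.prime_two).1 (orderOf_dvd_of_pow_eq_one he)
    have hso : orderOf s = 2 := by
      rcases j with _ | _ | j
      · exact absurd (orderOf_eq_one_iff.1 (by rw [hj, pow_zero])) h1
      · rw [hj, zero_add, pow_one]
      · exfalso
        have h6 : (4 : ℤ) ∣ k * k + 1 := by
          refine dvd_trans ?_ h5
          rw [hj]; push_cast; exact ⟨2 ^ j, by ring⟩
        obtain ⟨r, rfl⟩ | ⟨r, rfl⟩ := Int.even_or_odd k <;> ring_nf at h6 <;> omega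
    exact Or.inr ⟨hso, h.sameC_of_centr ht hso (hS.le s hs) hA hsc⟩
  have hn' : ¬ Centr x t := fun e => hn (by rw [hu, pow_two]; exact e.mul e)
  -- an odd prime-order element
  obtain ⟨y₀, hy₀1, hy₀⟩ := id hA
  obtain ⟨p, hp, hpd⟩ := Nat.exists_prime_and_dvd (fun e => hy₀1 (orderOf_eq_one_iff.1 e))
  set y := y₀ ^ (orderOf y₀ / p)
  have hyp : orderOf y = p := orderOf_pow_orderOf_div (orderOf_pos y₀).ne' hpd
  have hy : InA t y := ⟨hy₀.1.of_dvd_nat (orderOf_pow_dvd _), ((show Commute y₀ t from hy₀.2).pow_left _).eq⟩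
  have hy1 : y ≠ 1 := fun e => hp.ne_one (by rw [← hyp, e, orderOf_one])
  have hnorm : ∀ s ∈ S, s * y * s⁻¹ ∈ zpowers y := fun s hs => h.normalize ht hy.1 hy.2 (hS.le s hs)
  have hcy : ∀ s ∈ S, s * y = y * s → Centr s t := fun s hs e =>
    (h.two_centralizes ht (isTwo_of_mem hS.two hs) (hS.le s hs) hy1 hy e).1
  -- elements of order four square to `u`
  have hsq : ∀ s ∈ S, orderOf s = 4 → s ^ 2 = u := by
    intro s hs hso
    have hsn : ¬ Centr s t := fun e => by
      rcases hE s hs e with h1 | ⟨h2, -⟩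
      · rw [h1, orderOf_one] at hso; omega
      · omega
    have hs2n : ¬ Centr (s ^ 2) t := fun e => by
      have := (h.invol_of_sq_centr ht hA (isTwo_of_mem hS.two hs) (hS.le s hs) hsn e).1
      omega
    have hs4 : Centr ((s ^ 2) ^ 2) t := by
      rw [← pow_mul, show 2 * 2 = orderOf s by rw [hso], pow_orderOf_eq_one]; exact centr_one t
    have hs2i : Inverts (s ^ 2) t := (h.invol_of_sq_centr ht hA ((isTwo_of_mem hS.two hs).pow 2)
      (hS.le _ (pow_mem hs 2)) hs2n hs4).2
    obtain ⟨a, ha⟩ := mem_zpowers_iff.1 (hnorm x hxS)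
    obtain ⟨b, hb⟩ := mem_zpowers_iff.1 (hnorm s hs)
    have hda : (p : ℤ) ∣ a * a + 1 := by
      rw [← hyp, orderOf_dvd_iff_zpow_eq_one, zpow_add_one, zpow_mul, ha, conj_zpow, ha,
        show x * (x * y * x⁻¹) * x⁻¹ = x ^ 2 * y * (x ^ 2)⁻¹ by rw [pow_two]; group, hui y hy, inv_mul_cancel]
    have hdb : (p : ℤ) ∣ b * b + 1 := by
      rw [← hyp, orderOf_dvd_iff_zpow_eq_one, zpow_add_one, zpow_mul, hb, conj_zpow, hb,
        show s * (s * y * s⁻¹) * s⁻¹ = s ^ 2 * y * (s ^ 2)⁻¹ by rw [pow_two]; group, hs2i y hy, inv_mul_cancel]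
    have hd : (p : ℤ) ∣ (a - b) * (a + b) := by
      have := dvd_sub hda hdb
      rwa [show a * a + 1 - (b * b + 1) = (a - b) * (a + b) by ring] at this
    obtain ⟨w, hwS, hwy, hsw⟩ : ∃ w ∈ S, w * y = y * w ∧ (s = x * w ∨ s = x⁻¹ * w) := by
      rcases (Nat.prime_iff_prime_int.1 hp).dvd_or_dvd hd with hd' | hd'
      · refine ⟨x⁻¹ * s, mul_mem (inv_mem hxS) hs, ?_, Or.inl (by group)⟩
        have e : x * y * x⁻¹ = s * y * s⁻¹ := by
          rw [← ha, ← hb, zpow_eq_zpow_iff_modEq, hyp]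
          exact Int.modEq_iff_dvd.2 (by rw [← dvd_neg, neg_sub]; exact hd')
        calc x⁻¹ * s * y = x⁻¹ * (s * y * s⁻¹) * s := by group
          _ = x⁻¹ * (x * y * x⁻¹) * s := by rw [e]
          _ = y * (x⁻¹ * s) := by group
      · refine ⟨x * s, mul_mem hxS hs, ?_, Or.inr (by group)⟩
        have e : x * (s * y * s⁻¹) * x⁻¹ = y := by
          rw [← hb, ← conj_zpow, ← ha, ← zpow_mul]
          nth_rw 2 [← zpow_one y]
          rw [zpow_eq_zpow_iff_modEq, hyp]
          refine Int.modEq_iff_dvd.2 ?_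
          rw [show (1 : ℤ) - a * b = (a * a + 1) - a * (a + b) by ring]
          exact dvd_sub hda (hd'.mul_left _)
        calc x * s * y = x * (s * y * s⁻¹) * x⁻¹ * (x * s) := by group
          _ = y * (x * s) := by rw [e]
    have hw2 : w * w = 1 ∧ x * w = w * x := by
      rcases hE w hwS (hcy w hwS hwy) with h1 | ⟨h1, h2⟩
      · rw [h1]; simp
      · exact ⟨invol_sq h1, (h2 x).2 hxt⟩
    have hxi2 : (x⁻¹) ^ 2 = u := by rw [inv_pow, ← hu, invol_inv huo]
    rcases hsw with rfl | rfl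
    · rw [(show Commute x w from hw2.2).mul_pow, ← hu, pow_two w, hw2.1, mul_one]
    · rw [(show Commute x w from hw2.2).inv_left.mul_pow, hxi2, pow_two w, hw2.1, mul_one]
  have huc : ∀ s ∈ S, s * u = u * s := fun s hs => mul_inv_eq_iff_eq_mul.1 (by
    rw [hu, ← conj_pow]
    exact hsq _ (mul_mem (mul_mem hs hxS) (inv_mem hs)) (by rw [orderOf_conj, hxo]))
  -- involutions of `S`
  have hinvS : ∀ v ∈ S, orderOf v = 2 → SameC v t ∨ v * u = 1 ∨ (orderOf (v * u) = 2 ∧ SameC (v * u) t) := by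
    intro v hv hvo
    rcases h.sameC_or_inverts ht hvo (hS.le v hv) with hs | hs
    · exact Or.inl hs
    · exact Or.inr (hE _ (mul_mem hv huS) (centr_mul_of_inverts hs hui))
  have hcen : ∀ v ∈ S, orderOf v = 2 → ∀ s ∈ S, s * v = v * s := by
    intro v hv hvo s hs
    rcases hinvS v hv hvo with h1 | h1 | ⟨-, h1⟩
    · exact (h1 s).2 (hS.le s hs)
    · rw [mul_eq_one_iff_eq_inv.1 h1, invol_inv huo]; exact huc s hs
    · have := (show Commute s (v * u) from (h1 s).2 (hS.le s hs)).mul_right (huc s hs)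
      rwa [mul_assoc, invol_sq huo, mul_one] at this
  obtain ⟨T, hST⟩ := hS.two.exists_le_sylow
  by_cases hTt : ∀ w ∈ (T : Subgroup G), w * t = t * w
  · -- `u` is weakly closed
    have hTS : ∀ w ∈ (T : Subgroup G), w ∈ S := fun w hw => hS.mem_of_sylow T hST hw (hTt w hw)
    refine false_of_weakly_closed hna T huo fun g hg => ?_
    obtain ⟨n, hn1, hn2⟩ := CfsgLib.Fusion.exists_normalizer_conj_eq_of_central T (x := u)
      (fun w hw => mem_centralizer_singleton_iff.2 (huc w (hTS w hw))) g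
      (fun w hw => mem_centralizer_singleton_iff.2
        (hcen _ (hTS _ hg) (by rw [orderOf_conj, huo]) w (hTS w hw)))
    rw [← hn2, hu, ← conj_pow]
    exact hsq _ (hTS _ ((mem_normalizer_iff.1 hn1 x).1 (hST hxS))) (by rw [orderOf_conj, hxo])
  have honly : ∀ v : G, orderOf v = 2 → SameC v t → v = t := fun v hv hvs =>
    by_contra fun hne => hTt (h.sylow_le_of_two ht hA hv hvs hne hS T hST)
  have hE' : ∀ s ∈ S, Centr s t → s = 1 ∨ s = t := fun s hs hsc =>
    (hE s hs hsc).imp_right fun e => honly s e.1 e.2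
  have htS : t ∈ S := hS.self_mem ht
  have hut' : u ≠ t := fun e => h.not_sameC_of_inverts hA hui (e ▸ SameC.refl t)
  have hinv3 : ∀ v ∈ S, orderOf v = 2 → v = t ∨ v = u ∨ v = t * u := by
    intro v hv hvo
    rcases hinvS v hv hvo with h1 | h1 | ⟨h0, h1⟩
    · exact Or.inl (honly v hvo h1)
    · exact Or.inr (Or.inl (by rw [mul_eq_one_iff_eq_inv.1 h1, invol_inv huo]))
    · refine Or.inr (Or.inr ?_)
      rw [← honly _ h0 h1, mul_assoc, invol_sq huo, mul_one]
  push Not at hTt
  -- `u` is central in `T`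
  have hTu : ∀ w ∈ (T : Subgroup G), w * u = u * w := by
    obtain ⟨z, hzT, hz, hzc⟩ := exists_central_invol T ht (hST htS)
    have hzS : z ∈ S := hS.mem_of_sylow T hST hzT (hzc t (hST htS)).symm
    obtain ⟨g, hgT, hgS, hgN⟩ := exists_normalizer_notMem T hST
      (by obtain ⟨w, hw, hwt⟩ := hTt; exact ⟨w, hw, fun e => hwt (hS.le w e)⟩)
    have hgu : g * u = u * g := mul_inv_eq_iff_eq_mul.1 (by
      rw [hu, ← conj_pow]
      exact hsq _ ((mem_normalizer_iff.1 hgN x).1 hxS) (by rw [orderOf_conj, hxo]))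
    rcases hinv3 z hzS hz with rfl | rfl | rfl
    · obtain ⟨w, hw, hwt⟩ := hTt; exact absurd (hzc w hw) hwt
    · exact hzc
    · refine absurd ?_ hgS
      refine hS.mem_of_sylow T hST hgT ?_
      have := (show Commute g (t * u) from hzc g hgT).mul_right hgu
      rwa [mul_assoc, invol_sq huo, mul_one] at this
  -- no odd element centralizes `u`
  have hnAu : ¬ HasA u := by
    intro hAu
    have hns : ¬ SameC t u := fun e => h.not_sameC_of_inverts hA hui e.symm
    have hti : Inverts t u := (h.sameC_or_inverts huo ht hut.symm).resolve_left hns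
    have hc : ∀ w : G, IsTwo w → u ∈ zpowers w → w * u = u * w → Centr w u := by
      intro w hw huw hwu a ha
      have h3 : IsTwo (a * w * a⁻¹ * w⁻¹) :=
        hw.of_mem_zpowers (mul_mem (h.fix w u a huo huw ha.2) (inv_mem (mem_zpowers w)))
      have h4 : InA u (a * w * a⁻¹ * w⁻¹) := by
        rw [show a * w * a⁻¹ * w⁻¹ = a * (w * a⁻¹ * w⁻¹) by group]
        exact h.inA_mul huo ha (ha.inv.conj_of_comm hwu)
      have := h3.eq_one_of_odd h4.1
      rw [mul_inv_eq_one, mul_inv_eq_iff_eq_mul] at this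
      exact this.symm
    have htx : (t * x) ^ 2 = u := by
      rw [(show Commute t x from hxt.symm).mul_pow, pow_two t, invol_sq ht, one_mul]
    have c1 := hc (t * x) (isTwo_of_mem hS.two (mul_mem htS hxS))
      (htx ▸ pow_mem (mem_zpowers (t * x)) 2) ((huc _ (mul_mem htS hxS)))
    have c2 := hc x hx (pow_mem (mem_zpowers x) 2) (huc x hxS)
    refine h.not_centr_of_inverts hAu hti ?_
    have := c1.mul c2.inv
    rwa [mul_inv_cancel_right] at this
  have hCu : ∀ g : G, g * u = u * g → g ∈ (T : Subgroup G) := by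
    intro g hg
    have hp : IsPGroup 2 (centralizer ({u} : Set G)) := fun w => by
      obtain ⟨k, hk⟩ := isTwo_of_not_hasA hnAu (mem_centralizer_singleton_iff.1 w.2)
      exact ⟨k, Subtype.ext hk⟩
    rw [← T.3 hp fun w hw => mem_centralizer_singleton_iff.2 (hTu w hw)]
    exact mem_centralizer_singleton_iff.2 hg
  -- a generator of `S` modulo `t`
  haveI : Fact p.Prime := ⟨hp⟩
  obtain ⟨x₁, hx₁, hgen, hx₁u⟩ : ∃ x₁ ∈ S, (∀ s ∈ S, s ∈ zpowers x₁ ∨ t * s ∈ zpowers x₁) ∧
      u ∈ zpowers x₁ := by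
    let φ : S →* MulAut (zpowers y) :=
      { toFun := fun s =>
          { toFun := fun a => ⟨(s : G) * a * (s : G)⁻¹,
              (mem_normalizer_iff.1 (mem_normalizer_zpowers.2 (hnorm s s.2)) a).1 a.2⟩
            invFun := fun a => ⟨(s : G)⁻¹ * a * s, by
              have := (mem_normalizer_iff.1 (mem_normalizer_zpowers.2 (hnorm _ (inv_mem s.2))) a).1 a.2
              simpa using this⟩
            left_inv := fun a => Subtype.ext (by simp [mul_assoc])
            right_inv := fun a => Subtype.ext (by simp [mul_assoc])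
            map_mul' := fun a b => Subtype.ext (by simp [mul_assoc]) }
        map_one' := MulEquiv.ext fun a => Subtype.ext (by simp)
        map_mul' := fun a b => MulEquiv.ext fun c => Subtype.ext (by simp [mul_assoc]) }
    have hφ : ∀ s : S, φ s = 1 ↔ (s : G) * y = y * s := by
      intro s
      refine ⟨fun e => mul_inv_eq_iff_eq_mul.1
        (congrArg Subtype.val (MulEquiv.congr_fun e ⟨y, mem_zpowers y⟩)),
        fun e => MulEquiv.ext fun a => Subtype.ext ?_⟩
      obtain ⟨i, hi⟩ := mem_zpowers_iff.1 a.2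
      show (s : G) * a * (s : G)⁻¹ = a
      rw [← hi, ((show Commute (s : G) y from e).zpow_right i).eq, mul_inv_cancel_right]
    haveI : IsCyclic φ.range := by
      haveI : IsCyclic (MulAut (zpowers y)) := by
        have hc : IsCyclic (ZMod (Nat.card (zpowers y)))ˣ := by
          rw [Nat.card_zpowers, hyp]; infer_instance
        exact isCyclic_of_surjective (IsCyclic.mulAutMulEquiv (zpowers y)).symm.toMonoidHom
          (IsCyclic.mulAutMulEquiv (zpowers y)).symm.surjective
      infer_instance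
    obtain ⟨⟨_, x₁, rfl⟩, hg⟩ := IsCyclic.exists_generator (α := φ.range)
    have hgen0 : ∀ s : S, ∃ i : ℤ, Centr ((s : G) * ((x₁ : G) ^ i)⁻¹) t := by
      intro s
      obtain ⟨i, hi⟩ := hg ⟨φ s, s, rfl⟩
      refine ⟨i, hcy _ (mul_mem s.2 (inv_mem (zpow_mem x₁.2 i))) ?_⟩
      have hi' : φ x₁ ^ i = φ s := congrArg Subtype.val hi
      exact (hφ (s * (x₁ ^ i)⁻¹)).1 (by rw [map_mul, map_inv, map_zpow, hi', mul_inv_cancel])
    refine ⟨x₁, x₁.2, fun s hs => ?_, ?_⟩
    · obtain ⟨i, hi⟩ := hgen0 ⟨s, hs⟩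
      rcases hE' _ (mul_mem hs (inv_mem (zpow_mem x₁.2 i))) hi with h1 | h1
      · exact Or.inl (mul_inv_eq_one.1 h1 ▸ zpow_mem (mem_zpowers _) i)
      · right
        rw [mul_inv_eq_iff_eq_mul.1 h1, ← mul_assoc, invol_sq ht, one_mul]
        exact zpow_mem (mem_zpowers _) i
    · have h2 : ¬ Centr ((x₁ : G) ^ 2) t := by
        intro e
        obtain ⟨i, hi⟩ := hgen0 ⟨x, hxS⟩
        refine hn ?_
        have e1 : x = x * ((x₁ : G) ^ i)⁻¹ * (x₁ : G) ^ i := by group
        rcases hE' _ (mul_mem hxS (inv_mem (zpow_mem x₁.2 i))) hi with h1 | h1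
        · rw [hu, mul_inv_eq_one.1 h1, ← zpow_natCast, ← zpow_mul, mul_comm, zpow_mul, zpow_natCast]
          exact fun a ha => ((show Commute ((x₁ : G) ^ 2) a from e a ha).zpow_left i).eq
        · rw [hu, mul_inv_eq_iff_eq_mul.1 h1,
            (show Commute t ((x₁ : G) ^ i) from
              ((show Commute t (x₁ : G) from (hS.le _ x₁.2).symm).zpow_right i)).mul_pow,
            pow_two t, invol_sq ht, one_mul, ← zpow_natCast, ← zpow_mul, mul_comm, zpow_mul, zpow_natCast]
          exact fun a ha => ((show Commute ((x₁ : G) ^ 2) a from e a ha).zpow_left i).eq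
      obtain ⟨v, hv, hvx⟩ := (isTwo_of_mem hS.two (pow_mem x₁.2 2)).exists_invol
        fun e => h2 (e ▸ centr_one t)
      have hvx1 : v ∈ zpowers (x₁ : G) := zpowers_le.2 (pow_mem (mem_zpowers _) 2) hvx
      -- `v` is the square of an element of order four
      obtain ⟨i, hi⟩ := mem_zpowers_iff.1 hvx
      have hw4 : orderOf ((x₁ : G) ^ i) = 4 := orderOf_eq_prime_pow (p := 2) (n := 1)
        (by rw [pow_one, ← zpow_natCast, ← zpow_mul, mul_comm, zpow_mul, zpow_natCast, hi]
            exact invol_ne_one hv)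
        (by rw [show (2 : ℕ) ^ (1 + 1) = 2 * 2 by rfl, pow_mul, ← zpow_natCast (_ ^ i), ← zpow_mul,
              mul_comm, zpow_mul, zpow_natCast, hi, pow_two, invol_sq hv])
      rwa [← hsq _ (zpow_mem x₁.2 i) hw4, ← zpow_natCast, ← zpow_mul, mul_comm i, zpow_mul, zpow_natCast, hi]
  have hx₁T := hST hx₁
  -- `T` moves `t` only to `t u`
  have hmove : ∀ g ∈ (T : Subgroup G), g * t * g⁻¹ = t ∨ g * t * g⁻¹ = t * u := by
    intro g hg
    obtain ⟨j, hj⟩ := mem_zpowers_iff.1 hx₁u
    have hux : u ∈ zpowers (t * x₁) := by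
      obtain ⟨r, rfl⟩ | ⟨r, rfl⟩ := Int.even_or_odd j
      · refine ⟨r + r, ?_⟩
        show (t * x₁) ^ (r + r) = u
        rw [(show Commute t x₁ from (hS.le x₁ hx₁).symm).mul_zpow, hj, ← two_mul, zpow_mul,
          zpow_two, invol_sq ht, one_zpow, one_mul]
      · exfalso
        -- `u` generates `⟨x₁⟩`
        have h4 : x₁ * u = u * x₁ := huc x₁ hx₁
        have hx2 : x₁ ^ 2 = 1 := by
          have h5 : (x₁ ^ (2 * r + 1)) ^ (2 : ℤ) = 1 := by rw [hj, zpow_two, invol_sq huo]
          obtain ⟨k, hk⟩ := isTwo_of_mem hS.two hx₁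
          rw [← zpow_mul, ← orderOf_dvd_iff_zpow_eq_one] at h5
          refine orderOf_dvd_iff_pow_eq_one.1 (Int.natCast_dvd_natCast.1 ?_)
          obtain ⟨e, -, he⟩ := (Nat.dvd_prime_pow Nat.prime_two).1 (orderOf_dvd_of_pow_eq_one hk)
          refine (Int.isCoprime_iff_gcd_eq_one.2 ?_).dvd_of_dvd_mul_left h5
          rw [he, Int.gcd_comm, Int.gcd, Int.natAbs_natCast]
          exact Nat.Coprime.pow_right _ (Nat.coprime_two_right.2 (Int.natAbs_odd.2 ⟨r, rfl⟩))
        rcases hgen x hxS with h1 | h1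
        · obtain ⟨i, hi⟩ := mem_zpowers_iff.1 h1
          refine invol_ne_one huo ?_
          rw [hu, ← hi, ← zpow_natCast, ← zpow_mul, mul_comm, zpow_mul, zpow_natCast, hx2, one_zpow]
        · obtain ⟨i, hi⟩ := mem_zpowers_iff.1 h1
          refine invol_ne_one huo ?_
          have : x = t * x₁ ^ i := by rw [hi, ← mul_assoc, invol_sq ht, one_mul]
          rw [hu, this, (show Commute t (x₁ ^ i) from
              (show Commute t x₁ from (hS.le x₁ hx₁).symm).zpow_right i).mul_pow,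
            pow_two t, invol_sq ht, one_mul, ← zpow_natCast, ← zpow_mul, mul_comm, zpow_mul, zpow_natCast,
            hx2, one_zpow]
    obtain ⟨a, ha⟩ := mem_zpowers_iff.1 (h.fix x₁ u g huo hx₁u (hTu g hg))
    obtain ⟨b, hb⟩ := mem_zpowers_iff.1 (h.fix (t * x₁) u g huo hux (hTu g hg))
    have hv : g * t * g⁻¹ = (t * x₁) ^ b * (x₁ ^ a)⁻¹ := by rw [hb, ha]; group
    have hvS : g * t * g⁻¹ ∈ S := by
      rw [hv]; exact mul_mem (zpow_mem (mul_mem htS hx₁) b) (inv_mem (zpow_mem hx₁ a))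
    rcases hinv3 _ hvS (by rw [orderOf_conj, ht]) with e | e | e
    · exact Or.inl e
    · exfalso
      have : g * t * g⁻¹ = g * u * g⁻¹ := by rw [e, hTu g hg, mul_inv_cancel_right]
      exact hut' (mul_left_cancel (mul_right_cancel this)).symm
    · exact Or.inr e
  obtain ⟨g₀, hg₀, hg₀t⟩ := hTt
  have hAtu : HasA (t * u) := by
    rcases hmove g₀ hg₀ with e | e
    · exact absurd (mul_inv_eq_iff_eq_mul.1 e) hg₀t
    · exact e ▸ hA.conj g₀
  -- conjugates of `t` in `T`
  have hclass : ∀ g : G, g * t * g⁻¹ ∈ (T : Subgroup G) → g * t * g⁻¹ = t ∨ g * t * g⁻¹ = t * u := by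
    intro g hg
    have hw : g⁻¹ * u * g * t = t * (g⁻¹ * u * g) := by
      have := comm_conj (g := g⁻¹) (hTu _ hg)
      simp only [inv_inv] at this
      rw [show g⁻¹ * (g * t * g⁻¹) * g = t by group] at this
      exact this.symm
    obtain ⟨c, hct, hc⟩ := hS.exists_conj_mem ((IsTwo.of_invol huo).conj g⁻¹) (by rwa [inv_inv])
    rw [inv_inv] at hc
    have hco : orderOf (c * (g⁻¹ * u * g) * c⁻¹) = 2 := by
      rw [orderOf_conj, show g⁻¹ * u * g = g⁻¹ * u * g⁻¹⁻¹ by rw [inv_inv], orderOf_conj, huo]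
    have hnA : ¬ HasA (c * (g⁻¹ * u * g) * c⁻¹) := fun e => hnAu (by
      have := e.conj (g * c⁻¹)
      rwa [show g * c⁻¹ * (c * (g⁻¹ * u * g) * c⁻¹) * (g * c⁻¹)⁻¹ = u by group] at this)
    rcases hinv3 _ hc hco with e | e | e
    · exact absurd (e ▸ hA) hnA
    · have hk : c * g⁻¹ ∈ (T : Subgroup G) := hCu _ (by
        calc c * g⁻¹ * u = c * (g⁻¹ * u * g) * c⁻¹ * (c * g⁻¹) := by group
          _ = u * (c * g⁻¹) := by rw [e])
      have e2 : g * t * g⁻¹ = (c * g⁻¹)⁻¹ * t * (c * g⁻¹)⁻¹⁻¹ := by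
        rw [inv_inv, show (c * g⁻¹)⁻¹ * t * (c * g⁻¹) = g * (c⁻¹ * (t * c)) * g⁻¹ by group, ← hct,
          inv_mul_cancel_left]
      rw [e2]; exact hmove _ (inv_mem hk)
    · exact absurd (e ▸ hAtu) hnA
  by_cases hex : ∃ v ∈ (T : Subgroup G), orderOf v = 2 ∧ v ∉ S
  swap
  · push Not at hex
    refine false_of_weakly_closed hna T huo fun g hg => ?_
    have hnA : ¬ HasA (g * u * g⁻¹) := fun e => hnAu (by
      have := e.conj g⁻¹
      rwa [show g⁻¹ * (g * u * g⁻¹) * g⁻¹⁻¹ = u by group] at this)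
    have ho : orderOf (g * u * g⁻¹) = 2 := by rw [orderOf_conj, huo]
    rcases hinv3 _ (hex _ hg ho) ho with e | e | e
    · exact absurd (e ▸ hA) hnA
    · exact e
    · exact absurd (e ▸ hAtu) hnA
  obtain ⟨v, hvT, hvo, hvS⟩ := hex
  have hvt : v * t * v⁻¹ = t * u := (hmove v hvT).resolve_left fun e =>
    hvS (hS.mem_of_sylow T hST hvT (mul_inv_eq_iff_eq_mul.1 e))
  have hvn : ∀ a ∈ zpowers x₁, v * a * v⁻¹ ∈ zpowers x₁ := fun a ha =>
    (mem_normalizer_iff.1 (mem_normalizer_zpowers.2 (h.fix x₁ u v huo hx₁u (hTu v hvT))) a).1 ha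
  have hSx : zpowers x₁ ≤ S := zpowers_le.2 hx₁
  let Q : Subgroup G :=
    { carrier := {q | q ∈ zpowers x₁ ∨ q * v ∈ zpowers x₁}
      one_mem' := Or.inl (one_mem _)
      mul_mem' := by
        rintro a b (ha | ha) (hb | hb)
        · exact Or.inl (mul_mem ha hb)
        · exact Or.inr (by rw [mul_assoc]; exact mul_mem ha hb)
        · right
          have := mul_mem ha (hvn _ hb)
          rwa [invol_inv hvo, ← mul_assoc, ← mul_assoc, mul_assoc a v v, invol_sq hvo, mul_one] at this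
        · left
          have := mul_mem ha (hvn _ hb)
          rwa [invol_inv hvo, ← mul_assoc, ← mul_assoc, mul_assoc a v v, invol_sq hvo, mul_one,
            mul_assoc a (b * v) v, mul_assoc b v v, invol_sq hvo, mul_one] at this
      inv_mem' := by
        rintro a (ha | ha)
        · exact Or.inl (inv_mem ha)
        · right
          have := hvn _ (inv_mem ha)
          rwa [invol_inv hvo, mul_inv_rev, invol_inv hvo, ← mul_assoc, invol_sq hvo, one_mul] at this }
  have htx : t ∉ zpowers x₁ := fun e => hut' (invol_unique huo ht hx₁u e)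
  have hmS : ∀ q, q * v ∈ zpowers x₁ → q ∉ S := fun q hq hqS => hvS (by
    have := mul_mem (inv_mem hqS) (hSx hq)
    rwa [inv_mul_cancel_left] at this)
  have htuQ : t * u ∉ Q := by
    rintro (e | e)
    · have := mul_mem e (inv_mem hx₁u)
      rw [mul_inv_cancel_right] at this
      exact htx this
    · exact hmS _ e (mul_mem htS huS)
  have htQ : t ∉ Q := by
    rintro (e | e)
    · exact htx e
    · exact hmS _ e htS
  have hcov : ∀ b ∈ (T : Subgroup G), b ∈ S ∨ b * v ∈ S := by
    intro b hb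
    rcases hmove b hb with e | e
    · exact Or.inl (hS.mem_of_sylow T hST hb (mul_inv_eq_iff_eq_mul.1 e))
    · right
      refine hS.mem_of_sylow T hST (mul_mem hb hvT) ?_
      rw [← mul_inv_eq_iff_eq_mul, show b * v * t * (b * v)⁻¹ = b * (v * t * v⁻¹) * b⁻¹ by group, hvt,
        show b * (t * u) * b⁻¹ = (b * t * b⁻¹) * (b * u * b⁻¹) by group, e, hTu b hb, mul_inv_cancel_right,
        mul_assoc, invol_sq huo, mul_one]
  have hQi : Q.relIndex (T : Subgroup G) = 2 := by
    refine Subgroup.relIndex_eq_two_iff.2 ⟨t, hST htS, fun b hb => ?_⟩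
    by_cases hbQ : b ∈ Q
    · refine Or.inr ⟨hbQ, fun e => htQ ?_⟩
      have := mul_mem (inv_mem hbQ) e
      rwa [inv_mul_cancel_left] at this
    · refine Or.inl ⟨?_, hbQ⟩
      rcases hcov b hb with hbS | hbS
      · rcases hgen b hbS with e | e
        · exact absurd (Or.inl e) hbQ
        · exact Or.inl (by rwa [← hS.le b hbS] at e)
      · rcases hgen _ hbS with e | e
        · exact absurd (Or.inr e) hbQ
        · right
          have e1 : b * t * v = b * v * t * u := by
            have hvt' : t * v = v * (t * u) := by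
              rw [← hvt, invol_inv hvo, ← mul_assoc, ← mul_assoc, invol_sq hvo, one_mul]
            rw [mul_assoc b t v, hvt', ← mul_assoc, ← mul_assoc]
          show b * t * v ∈ zpowers x₁
          rw [e1, hS.le _ hbS]
          exact mul_mem e hx₁u
  have hQT : Q ≤ (T : Subgroup G) := by
    rintro q (e | e)
    · exact hST (hSx e)
    · have := mul_mem (hST (hSx e)) (inv_mem hvT)
      rwa [mul_inv_cancel_right] at this
  obtain ⟨M, hM, hM2, -⟩ := CfsgLib.Fusion.thompson_transfer T hQT hQi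
    (by rw [pow_two]; exact invol_sq ht : t ^ 2 = 1) fun g hg => by
      rcases hclass g (hQT hg) with e | e
      · exact htQ (e ▸ hg)
      · exact htuQ (e ▸ hg)
  exact CfsgLib.CIT.index_ne_two_of_simple hna M hM hM2

end CfsgLib.NormPSL
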