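import Cfsg.Agent.Lib.NormPSL.Basic

/-!
# The centralizer of an involution: elements of odd order and 2-elements

An involution of `C(t)` either has the same centralizer as `t` or inverts every element of odd
order of `C(t)`.
-/

set_option autoImplicit false
set_option linter.unusedSectionVars false

namespace CfsgLib.NormPSL

open Subgroup

variable {G : Type*} [Group G]

/-- `y` has odd order and centralizes `t`. -/
def InA (t y : G) : Prop := Odd (orderOf y) ∧ y * t = t * y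

/-- `C(t)` has a nontrivial element of odd order. -/
def HasA (t : G) : Prop := ∃ y : G, y ≠ 1 ∧ InA t y

/-- `v` and `t` have the same centralizer. -/
def SameC (v t : G) : Prop := ∀ g : G, g * v = v * g ↔ g * t = t * g

/-- `u` inverts every element of odd order of `C(t)`. -/
def Inverts (u t : G) : Prop := ∀ y : G, InA t y → u * y * u⁻¹ = y⁻¹

/-- `x` centralizes every element of odd order of `C(t)`. -/
def Centr (x t : G) : Prop := ∀ y : G, InA t y → x * y = y * x

/-- `x` is a 2-element. -/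
def IsTwo (x : G) : Prop := ∃ k : ℕ, x ^ 2 ^ k = 1

theorem SameC.refl (t : G) : SameC t t := fun _ => Iff.rfl

theorem SameC.symm {v t : G} (h : SameC v t) : SameC t v := fun g => (h g).symm

theorem SameC.trans {u v t : G} (h : SameC u v) (h' : SameC v t) : SameC u t := fun g => (h g).trans (h' g)

theorem SameC.comm {v t : G} (h : SameC v t) : v * t = t * v := (h v).1 rfl

theorem SameC.inA_iff {v t y : G} (h : SameC v t) : InA v y ↔ InA t y := and_congr_right' (h y)

theorem SameC.centr {v t : G} (h : SameC v t) : Centr v t := fun y hy => ((h y).2 hy.2).symm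

theorem SameC.conj {v t : G} (h : SameC v t) (g : G) : SameC (g * v * g⁻¹) (g * t * g⁻¹) := by
  intro x
  have e : ∀ w : G, x * (g * w * g⁻¹) = g * w * g⁻¹ * x ↔ (g⁻¹ * x * g) * w = w * (g⁻¹ * x * g) := by
    intro w
    rw [← (MulAut.conj g).injective.eq_iff (a := g⁻¹ * x * g * w)]
    simp only [MulAut.conj_apply, mul_assoc, mul_inv_cancel_left, mul_inv_cancel, mul_one]
  rw [e, e]; exact h _

theorem InA.one (t : G) : InA t 1 := ⟨by rw [orderOf_one]; exact odd_one, by simp⟩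

theorem InA.inv {t y : G} (h : InA t y) : InA t y⁻¹ :=
  ⟨by rw [orderOf_inv]; exact h.1, ((show Commute y t from h.2).inv_left).eq⟩

theorem InA.conj {t y g : G} (h : InA t y) : InA (g * t * g⁻¹) (g * y * g⁻¹) :=
  ⟨by rw [← MulAut.conj_apply, MulEquiv.orderOf_eq]; exact h.1, by
    simpa [mul_assoc] using congrArg (fun w => g * w * g⁻¹) h.2⟩

theorem InA.conj_of_comm {t y g : G} (h : InA t y) (hg : g * t = t * g) : InA t (g * y * g⁻¹) := by
  have := h.conj (g := g)
  rwa [hg, mul_inv_cancel_right] at this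

theorem HasA.conj {t : G} (h : HasA t) (g : G) : HasA (g * t * g⁻¹) := by
  obtain ⟨y, hy1, hy⟩ := h
  exact ⟨g * y * g⁻¹, fun e => hy1 (conj_eq_one_iff.1 e), hy.conj⟩

theorem SameC.hasA {v t : G} (h : SameC v t) (hA : HasA t) : HasA v := by
  obtain ⟨y, hy1, hy⟩ := hA
  exact ⟨y, hy1, h.inA_iff.2 hy⟩

theorem IsTwo.one : IsTwo (1 : G) := ⟨0, one_pow _⟩

theorem IsTwo.conj {x : G} (h : IsTwo x) (g : G) : IsTwo (g * x * g⁻¹) := by
  obtain ⟨k, hk⟩ := h
  exact ⟨k, by rw [conj_pow, hk, mul_one, mul_inv_cancel]⟩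

theorem IsTwo.pow {x : G} (h : IsTwo x) (n : ℕ) : IsTwo (x ^ n) := by
  obtain ⟨k, hk⟩ := h
  exact ⟨k, by rw [← pow_mul, mul_comm, pow_mul, hk, one_pow]⟩

theorem IsTwo.inv {x : G} (h : IsTwo x) : IsTwo x⁻¹ := by
  obtain ⟨k, hk⟩ := h
  exact ⟨k, by rw [inv_pow, hk, inv_one]⟩

theorem IsTwo.of_invol {x : G} (h : orderOf x = 2) : IsTwo x := ⟨1, by rw [pow_one, ← h, pow_orderOf_eq_one]⟩

theorem IsTwo.of_mem_zpowers {x w : G} (h : IsTwo x) (hw : w ∈ zpowers x) : IsTwo w := by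
  obtain ⟨k, hk⟩ := h
  obtain ⟨i, rfl⟩ := mem_zpowers_iff.1 hw
  exact ⟨k, by rw [← zpow_natCast, ← zpow_mul, mul_comm, zpow_mul, zpow_natCast, hk, one_zpow]⟩

theorem IsTwo.mul {x y : G} (hx : IsTwo x) (hy : IsTwo y) (hc : Commute x y) : IsTwo (x * y) := by
  obtain ⟨a, ha⟩ := hx
  obtain ⟨b, hb⟩ := hy
  exact ⟨a + b, by rw [hc.mul_pow, pow_add, pow_mul, ha, one_pow, one_mul, mul_comm, pow_mul, hb, one_pow]⟩

theorem isTwo_of_mem {P : Subgroup G} (hP : IsPGroup 2 P) {x : G} (hx : x ∈ P) : IsTwo x := by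
  obtain ⟨k, hk⟩ := hP ⟨x, hx⟩
  exact ⟨k, congrArg Subtype.val hk⟩

theorem IsTwo.eq_one_of_odd {x : G} (h : IsTwo x) (ho : Odd (orderOf x)) : x = 1 := by
  obtain ⟨k, hk⟩ := h
  exact orderOf_eq_one_iff.1 (Nat.eq_one_of_dvd_coprimes ((Nat.coprime_two_left.2 ho).pow_left k)
    (orderOf_dvd_of_pow_eq_one hk) dvd_rfl)

theorem IsTwo.exists_invol {x : G} (h : IsTwo x) (h1 : x ≠ 1) : ∃ u : G, orderOf u = 2 ∧ u ∈ zpowers x := by
  obtain ⟨k, hk⟩ := h
  induction k generalizing x with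
  | zero => exact absurd (by simpa using hk) h1
  | succ k ih =>
    by_cases hx2 : x ^ 2 = 1
    · exact ⟨x, orderOf_eq_prime hx2 h1, mem_zpowers x⟩
    · obtain ⟨u, hu, hux⟩ := ih hx2 (by rw [← pow_mul, ← pow_succ', hk])
      exact ⟨u, hu, zpowers_le.2 (pow_mem (mem_zpowers x) 2) hux⟩

theorem comm_of_mem_zpowers {x w t : G} (h : x * t = t * x) (hw : w ∈ zpowers x) : w * t = t * w := by
  obtain ⟨i, rfl⟩ := mem_zpowers_iff.1 hw
  exact ((show Commute x t from h).zpow_left i).eq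

variable [Finite G] (h : Hyp G)
include h

theorem Hyp.inA_comm {t y z : G} (ht : orderOf t = 2) (hy : InA t y) (hz : InA t z) : Commute y z :=
  h.comm_odd ht hy.1 hz.1 hy.2 hz.2

theorem Hyp.inA_mul {t y z : G} (ht : orderOf t = 2) (hy : InA t y) (hz : InA t z) : InA t (y * z) := by
  refine ⟨?_, ((show Commute y t from hy.2).mul_left hz.2).eq⟩
  exact (hy.1.mul hz.1).of_dvd_nat ((h.inA_comm ht hy hz).orderOf_mul_dvd_mul_orderOf)

/-- An involution of `C(t)` centralizing a nontrivial odd element has the same centralizer as `t`. -/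
theorem Hyp.sameC_of_comm {t v y : G} (ht : orderOf t = 2) (hv : orderOf v = 2) (hy1 : y ≠ 1)
    (hy : InA t y) (hyv : y * v = v * y) : SameC v t := fun g =>
  (h.odd y v g hv hy1 hy.1 hyv).symm.trans (h.odd y t g ht hy1 hy.1 hy.2)

theorem Hyp.sameC_or_inverts {t v : G} (ht : orderOf t = 2) (hv : orderOf v = 2) (hvt : v * t = t * v) :
    SameC v t ∨ Inverts v t := by
  by_cases hex : ∃ y, y ≠ 1 ∧ InA t y ∧ y * v = v * y
  · obtain ⟨y, hy1, hy, hyv⟩ := hex
    exact Or.inl (h.sameC_of_comm ht hv hy1 hy hyv)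
  · right
    push Not at hex
    let f : {a : G // InA t a} → {a : G // InA t a} := fun a =>
      ⟨a.1⁻¹ * (v * a.1 * v⁻¹), h.inA_mul ht a.2.inv (a.2.conj_of_comm hvt)⟩
    have hf : Function.Injective f := by
      rintro ⟨a, ha⟩ ⟨b, hb⟩ e
      have e' : a⁻¹ * (v * a * v⁻¹) = b⁻¹ * (v * b * v⁻¹) := congrArg Subtype.val e
      by_contra hne
      refine hex (b * a⁻¹) (fun e1 => hne (Subtype.ext (mul_inv_eq_one.1 e1).symm)) (h.inA_mul ht hb ha.inv) ?_
      calc b * a⁻¹ * v = b * (a⁻¹ * (v * a * v⁻¹)) * (v * a⁻¹) := by group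
        _ = b * (b⁻¹ * (v * b * v⁻¹)) * (v * a⁻¹) := by rw [e']
        _ = v * (b * a⁻¹) := by group
    intro y hy
    obtain ⟨⟨a, ha⟩, e⟩ := (Finite.injective_iff_surjective.1 hf) ⟨y, hy⟩
    have e' : a⁻¹ * (v * a * v⁻¹) = y := congrArg Subtype.val e
    rw [← e', show v * (a⁻¹ * (v * a * v⁻¹)) * v⁻¹ = v * a⁻¹ * v * a * (v⁻¹ * v⁻¹) by group,
      invol_inv hv, invol_sq hv, mul_one]
    simp only [mul_inv_rev, inv_inv, invol_inv hv, mul_assoc]

theorem Hyp.not_sameC_of_inverts {t v : G} (hA : HasA t) (hv : Inverts v t) : ¬ SameC v t := by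
  intro hs
  obtain ⟨y, hy1, hy⟩ := hA
  have h1 := hv y hy
  rw [hs.centr y hy, mul_inv_cancel_right] at h1
  refine hy1 (orderOf_eq_one_iff.1 (Nat.eq_one_of_dvd_coprimes (Nat.coprime_two_left.2 hy.1)
    (orderOf_dvd_of_pow_eq_one ?_) dvd_rfl))
  rw [pow_two]; exact mul_eq_one_iff_eq_inv.2 h1

theorem Hyp.not_centr_of_inverts {t v : G} (hA : HasA t) (hv : Inverts v t) : ¬ Centr v t := by
  intro hs
  obtain ⟨y, hy1, hy⟩ := hA
  have h1 := hv y hy
  rw [hs y hy, mul_inv_cancel_right] at h1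
  refine hy1 (orderOf_eq_one_iff.1 (Nat.eq_one_of_dvd_coprimes (Nat.coprime_two_left.2 hy.1)
    (orderOf_dvd_of_pow_eq_one ?_) dvd_rfl))
  rw [pow_two]; exact mul_eq_one_iff_eq_inv.2 h1

theorem Hyp.sameC_of_centr {t v : G} (ht : orderOf t = 2) (hv : orderOf v = 2) (hvt : v * t = t * v)
    (hA : HasA t) (hc : Centr v t) : SameC v t :=
  (h.sameC_or_inverts ht hv hvt).resolve_right fun hi => h.not_centr_of_inverts hA hi hc

/-- A 2-element of `C(t)` centralizing one nontrivial odd element generates a normal subgroup of `C(t)`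
and centralizes all of them. -/
theorem Hyp.two_centralizes {t x y : G} (ht : orderOf t = 2) (hx : IsTwo x) (hxt : x * t = t * x)
    (hy1 : y ≠ 1) (hy : InA t y) (hxy : x * y = y * x) :
    Centr x t ∧ ∀ g : G, g * t = t * g → g * x * g⁻¹ ∈ zpowers x := by
  by_cases h1 : x = 1
  · subst h1
    exact ⟨fun a _ => by simp, fun g _ => by simp⟩
  obtain ⟨u, hu, hux⟩ := hx.exists_invol h1
  have hs : SameC u t := h.sameC_of_comm ht hu hy1 hy (comm_of_mem_zpowers hxy hux).symm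
  have hfix : ∀ g : G, g * t = t * g → g * x * g⁻¹ ∈ zpowers x := fun g hg => h.fix x u g hu hux ((hs g).2 hg)
  refine ⟨fun a ha => ?_, hfix⟩
  have h2 : IsTwo (a * x * a⁻¹ * x⁻¹) :=
    hx.of_mem_zpowers (mul_mem (hfix a ha.2) (inv_mem (mem_zpowers x)))
  have h3 : InA t (a * x * a⁻¹ * x⁻¹) := by
    rw [show a * x * a⁻¹ * x⁻¹ = a * (x * a⁻¹ * x⁻¹) by group]
    exact h.inA_mul ht ha (ha.inv.conj_of_comm hxt)
  have := h2.eq_one_of_odd h3.1
  rw [mul_inv_eq_one, mul_inv_eq_iff_eq_mul] at this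
  exact this.symm

theorem Hyp.centr_normal {t x : G} (ht : orderOf t = 2) (hA : HasA t) (hx : IsTwo x)
    (hxt : x * t = t * x) (hc : Centr x t) : ∀ g : G, g * t = t * g → g * x * g⁻¹ ∈ zpowers x := by
  obtain ⟨y, hy1, hy⟩ := hA
  exact (h.two_centralizes ht hx hxt hy1 hy (hc y hy)).2

/-- A 2-element outside the centralizer of the odd elements whose square is inside is an inverting
involution. -/
theorem Hyp.invol_of_sq_centr {t x : G} (ht : orderOf t = 2) (hA : HasA t) (hx : IsTwo x)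
    (hxt : x * t = t * x) (hn : ¬ Centr x t) (h2 : Centr (x ^ 2) t) : orderOf x = 2 ∧ Inverts x t := by
  have hx2 : x ^ 2 = 1 := by
    by_contra hne
    obtain ⟨y, hy1, hy⟩ := id hA
    obtain ⟨u, hu, hux⟩ := (hx.pow 2).exists_invol hne
    have hs : SameC u t := h.sameC_of_comm ht hu hy1 hy (comm_of_mem_zpowers (h2 y hy) hux).symm
    have hfix : ∀ g : G, g * t = t * g → g * x * g⁻¹ ∈ zpowers x := fun g hg =>
      h.fix x u g hu (zpowers_le.2 (pow_mem (mem_zpowers x) 2) hux) ((hs g).2 hg)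
    refine hn fun a ha => ?_
    have h3 : IsTwo (a * x * a⁻¹ * x⁻¹) :=
      hx.of_mem_zpowers (mul_mem (hfix a ha.2) (inv_mem (mem_zpowers x)))
    have h4 : InA t (a * x * a⁻¹ * x⁻¹) := by
      rw [show a * x * a⁻¹ * x⁻¹ = a * (x * a⁻¹ * x⁻¹) by group]
      exact h.inA_mul ht ha (ha.inv.conj_of_comm hxt)
    have := h3.eq_one_of_odd h4.1
    rw [mul_inv_eq_one, mul_inv_eq_iff_eq_mul] at this
    exact this.symm
  have hxo : orderOf x = 2 := orderOf_eq_prime hx2 fun e => hn (e ▸ fun a _ => by simp)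
  exact ⟨hxo, (h.sameC_or_inverts ht hxo hxt).resolve_left fun hs => hn hs.centr⟩

omit h in
theorem centr_mul_of_inverts {t u v : G} (hu : Inverts u t) (hv : Inverts v t) : Centr (u * v) t := by
  intro y hy
  have h1 : u * (v * y * v⁻¹) * u⁻¹ = y := by rw [hv y hy, hu _ hy.inv, inv_inv]
  calc u * v * y = u * (v * y * v⁻¹) * u⁻¹ * (u * v) := by group
    _ = y * (u * v) := by rw [h1]

/-- If two involutions besides `t` have its centralizer, an inverting one centralizes no odd element. -/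
theorem Hyp.not_hasA_of_two {t v u : G} (ht : orderOf t = 2) (hA : HasA t) (hv : orderOf v = 2)
    (hvt : SameC v t) (hne : v ≠ t) (hu : orderOf u = 2) (hut : u * t = t * u) (hui : Inverts u t) :
    ¬ HasA u := by
  intro hAu
  have hns : ¬ SameC u t := h.not_sameC_of_inverts hA hui
  have key : ∀ w : G, orderOf w = 2 → SameC w t → Inverts w u := fun w hw hs =>
    (h.sameC_or_inverts hu hw ((hs u).2 hut).symm).resolve_left fun hs' => hns (hs'.symm.trans hs)
  have hvt' : orderOf (v * t) = 2 := orderOf_eq_prime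
    (by rw [(show Commute v t from hvt.comm).mul_pow, pow_two, pow_two, invol_sq hv, invol_sq ht, one_mul])
    fun e => hne ((mul_eq_one_iff_eq_inv.1 e).trans (invol_inv ht))
  have hs2 : SameC (v * t) t := h.sameC_of_centr ht hvt'
    (((show Commute v t from hvt.comm).mul_left (Commute.refl t)).eq) hA fun y hy => by
      rw [mul_assoc, hy.2.symm, ← mul_assoc, hvt.centr y hy, mul_assoc]
  exact h.not_centr_of_inverts hAu (key _ hvt' hs2)
    (centr_mul_of_inverts (key v hv hvt) (key t ht (SameC.refl t)))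

omit h in
/-- An element is a product of commuting powers of odd order and of 2-power order. -/
theorem exists_odd_mul_two (g : G) : ∃ a b : G, g = a * b ∧ a ∈ zpowers g ∧ b ∈ zpowers g ∧
    Odd (orderOf a) ∧ IsTwo b := by
  obtain ⟨k, m, hm, hn⟩ := Nat.exists_eq_pow_mul_and_not_dvd (orderOf_pos g).ne' 2 (by norm_num)
  have hmo : Odd m := Nat.odd_iff.2 (by omega)
  have hcop : (2 ^ k).Coprime m := (Nat.coprime_two_left.2 hmo).pow_left k
  refine ⟨(g ^ 2 ^ k) ^ Nat.gcdA (2 ^ k) m, (g ^ m) ^ Nat.gcdB (2 ^ k) m, ?_,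
    zpow_mem (pow_mem (mem_zpowers g) _) _, zpow_mem (pow_mem (mem_zpowers g) _) _, ?_, ⟨k, ?_⟩⟩
  · rw [← zpow_natCast, ← zpow_natCast, ← zpow_mul, ← zpow_mul, ← zpow_add, ← Nat.gcd_eq_gcd_ab,
      hcop.gcd_eq_one, Nat.cast_one, zpow_one]
  · refine hmo.of_dvd_nat (orderOf_dvd_of_pow_eq_one ?_)
    rw [← zpow_natCast, ← zpow_mul, mul_comm, zpow_mul, zpow_natCast, ← pow_mul, ← hn,
      pow_orderOf_eq_one, one_zpow]
  · rw [← zpow_natCast, ← zpow_mul, mul_comm, zpow_mul, zpow_natCast, ← pow_mul, mul_comm m, ← hn,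
      pow_orderOf_eq_one, one_zpow]

omit h in
theorem isTwo_of_not_hasA {t g : G} (hA : ¬ HasA t) (hg : g * t = t * g) : IsTwo g := by
  obtain ⟨a, b, rfl, hag, -, ha, hb⟩ := exists_odd_mul_two g
  have : a = 1 := by_contra fun h1 => hA ⟨a, h1, ha, comm_of_mem_zpowers hg hag⟩
  rwa [this, one_mul]

/-- The centralizer of an involution is soluble. -/
theorem Hyp.solvable_centralizer {t : G} (ht : orderOf t = 2) :
    Group.IsSolvable (centralizer ({t} : Set G)) := by
  haveI : Fact (Nat.Prime 2) := ⟨Nat.prime_two⟩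
  let A : Subgroup (centralizer ({t} : Set G)) :=
    { carrier := {x | InA t (x : G)}
      one_mem' := InA.one t
      mul_mem' := fun hx hy => h.inA_mul ht hx hy
      inv_mem' := fun hx => hx.inv }
  haveI : A.Normal := ⟨fun x hx g => hx.conj_of_comm (mem_centralizer_singleton_iff.1 g.2)⟩
  haveI hAc : IsMulCommutative A :=
    ⟨⟨fun x y => Subtype.ext (Subtype.ext (h.inA_comm ht x.2 y.2))⟩⟩
  haveI : Group.IsSolvable A := Group.isSolvable_of_comm fun x y => hAc.is_comm.comm x y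
  have hq : IsPGroup 2 (centralizer ({t} : Set G) ⧸ A) := by
    intro q
    obtain ⟨g, rfl⟩ := QuotientGroup.mk_surjective q
    obtain ⟨a, b, e, hag, hbg, ha, k, hk⟩ := exists_odd_mul_two (g : G)
    refine ⟨k, ?_⟩
    rw [← QuotientGroup.mk_pow, QuotientGroup.eq_one_iff]
    have hc : Commute a b := by
      obtain ⟨i, rfl⟩ := mem_zpowers_iff.1 hag
      obtain ⟨j, rfl⟩ := mem_zpowers_iff.1 hbg
      exact ((Commute.refl _).zpow_left i).zpow_right j
    show InA t ((g ^ 2 ^ k : centralizer ({t} : Set G)) : G)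
    rw [Subgroup.coe_pow, e, hc.mul_pow, hk, mul_one]
    exact ⟨ha.of_dvd_nat (orderOf_pow_dvd _),
      ((show Commute a t from comm_of_mem_zpowers (mem_centralizer_singleton_iff.1 g.2) hag).pow_left _).eq⟩
  haveI := hq.isNilpotent
  exact Group.isSolvable_of_ker_le_range A.subtype (QuotientGroup.mk' A)
    (by rw [QuotientGroup.ker_mk', Subgroup.range_subtype])

omit h in
/-- A Sylow 2-subgroup of `C(t)`. -/
structure IsSylC (t : G) (S : Subgroup G) : Prop where
  two : IsPGroup 2 S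
  le : ∀ x ∈ S, x * t = t * x
  max : ∀ P : Subgroup G, IsPGroup 2 P → (∀ x ∈ P, x * t = t * x) → S ≤ P → P = S

omit h in
theorem exists_isSylC {t : G} {P : Subgroup G} (hP : IsPGroup 2 P) (hPt : ∀ x ∈ P, x * t = t * x) :
    ∃ S, IsSylC t S ∧ P ≤ S := by
  classical
  obtain ⟨S, hPS, hS⟩ := (Set.toFinite {Q : Subgroup G | IsPGroup 2 Q ∧ ∀ x ∈ Q, x * t = t * x}).exists_le_maximal
    (show P ∈ _ from ⟨hP, hPt⟩)
  exact ⟨S, ⟨hS.1.1, hS.1.2, fun Q hQ hQt hle => le_antisymm (hS.2 ⟨hQ, hQt⟩ hle) hle⟩, hPS⟩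

omit h in
theorem IsSylC.mem_of_sylow {t : G} {S : Subgroup G} (hS : IsSylC t S) (T : Sylow 2 G)
    (hST : S ≤ (T : Subgroup G)) {x : G} (hx : x ∈ (T : Subgroup G)) (hxt : x * t = t * x) : x ∈ S := by
  have := hS.max ((T : Subgroup G) ⊓ centralizer ({t} : Set G)) (T.2.to_le inf_le_left)
    (fun w hw => mem_centralizer_singleton_iff.1 hw.2)
    (le_inf hST fun w hw => mem_centralizer_singleton_iff.2 (hS.le w hw))
  exact this ▸ ⟨hx, mem_centralizer_singleton_iff.2 hxt⟩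

omit h in
theorem IsSylC.exists_conj_mem {t : G} {S : Subgroup G} (hS : IsSylC t S) {x : G} (hx : IsTwo x)
    (hxt : x * t = t * x) : ∃ c : G, c * t = t * c ∧ c * x * c⁻¹ ∈ S := by
  haveI : Fact (Nat.Prime 2) := ⟨Nat.prime_two⟩
  set C := centralizer ({t} : Set G)
  have hSC : S ≤ C := fun w hw => mem_centralizer_singleton_iff.2 (hS.le w hw)
  obtain ⟨Q, hQ⟩ := (hS.two.comap_of_injective C.subtype C.subtype_injective).exists_le_sylow
  have hQS : ((Q : Subgroup C)).map C.subtype = S := hS.max _ (Q.2.map _)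
    (fun w hw => mem_centralizer_singleton_iff.1 (map_subtype_le _ hw))
    (fun w hw => ⟨⟨w, hSC hw⟩, hQ hw, rfl⟩)
  let x' : C := ⟨x, mem_centralizer_singleton_iff.2 hxt⟩
  have hxp : IsPGroup 2 (zpowers x') := by
    obtain ⟨k, hk⟩ := hx
    intro w
    refine ⟨k, Subtype.ext (Subtype.ext ?_)⟩
    obtain ⟨i, hi⟩ := mem_zpowers_iff.1 w.2
    show ((w : C) : G) ^ 2 ^ k = 1
    rw [← hi, Subgroup.coe_zpow, ← zpow_natCast, ← zpow_mul, mul_comm, zpow_mul, zpow_natCast, hk, one_zpow]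
  obtain ⟨R, hR⟩ := hxp.exists_le_sylow
  obtain ⟨c, hc⟩ := MulAction.exists_smul_eq C R Q
  refine ⟨c, mem_centralizer_singleton_iff.1 c.2, hQS ▸ ⟨c * x' * c⁻¹, ?_, rfl⟩⟩
  rw [← hc]
  exact Subgroup.smul_mem_pointwise_smul x' (MulAut.conj c) _ (hR (mem_zpowers x'))

end CfsgLib.NormPSL
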