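import Cfsg.Agent.Lib.NormPSL.Basic
import Cfsg.Agent.Lib.AutPSL.BalanceField
import Cfsg.Agent.Lib.Qd.Elementary

/-!
# Groups between `PSL₂(q)` and its automorphism group satisfying the normalizer hypothesis
-/

set_option autoImplicit false
set_option linter.unusedSectionVars false
set_option linter.style.haveILetI false

namespace CfsgLib.NormPSL

open CfsgLib.AutPSL
open CfsgLib.Qd (up)

variable {F : Type} [Field F] [Fintype F]

local notation "S2" => Matrix.SpecialLinearGroup (Fin 2) F
local notation "P2" => Matrix.ProjectiveSpecialLinearGroup (Fin 2) F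

/-- `diag (d, 1)`. -/
def dg (d : Fˣ) : GL (Fin 2) F :=
  Matrix.GeneralLinearGroup.mkOfDetNeZero !![(d : F), 0; 0, 1] (by simp [Matrix.det_fin_two])

theorem dg_val (d : Fˣ) : (dg d).1 = !![(d : F), 0; 0, 1] := rfl

theorem dg_mul (a b : Fˣ) : dg (a * b) = dg a * dg b :=
  Units.ext (by
    rw [Units.val_mul, dg_val, dg_val, dg_val]
    ext i j; fin_cases i <;> fin_cases j <;> simp [Matrix.mul_apply, Fin.sum_univ_two])

theorem dg_one : dg (1 : Fˣ) = 1 :=
  Units.ext (by rw [dg_val]; ext i j; fin_cases i <;> fin_cases j <;> simp)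

theorem glField_dg (σ : RingAut F) (d : Fˣ) : glField σ (dg d) = dg (Units.map (σ : F →* F) d) :=
  Units.ext (by
    rw [glField_val, dg_val, dg_val]
    ext i j; fin_cases i <;> fin_cases j <;> simp)

/-- The involution `w`. -/
def wEl : S2 := ⟨!![0, 1; -1, 0], by simp [Matrix.det_fin_two]⟩

theorem slField_wEl (σ : RingAut F) : slField σ (wEl : S2) = wEl :=
  Subtype.ext (by rw [slField_val]; ext i j; fin_cases i <;> fin_cases j <;> simp [wEl])

theorem slField_up_one (σ : RingAut F) : slField σ (up (1 : F) : S2) = up 1 :=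
  Subtype.ext (by rw [slField_val]; ext i j; fin_cases i <;> fin_cases j <;> simp)

/-- An element of order three when the characteristic is two. -/
def yEl : S2 := ⟨!![0, 1; -1, 1], by simp [Matrix.det_fin_two]⟩

/-- `diag (a, a⁻¹)`. -/
def hEl (a : Fˣ) : S2 := ⟨!![(a : F), 0; 0, ((a⁻¹ : Fˣ) : F)], by simp [Matrix.det_fin_two]⟩

theorem proj_inj_or {A B : S2} (h : (proj A : P2) = proj B) : ∃ c : F, ∀ i j, A.1 i j = c * B.1 i j := by
  obtain ⟨c, hc⟩ := proj_eq_imp h
  exact ⟨c, fun i j => by rw [hc]; rfl⟩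

theorem orderOf_proj_wEl : orderOf (proj (wEl : S2) : P2) = 2 := by
  refine orderOf_eq_prime ?_ fun e => ?_
  · rw [pow_two, ← map_mul]
    refine (QuotientGroup.eq_one_iff _).2 (Matrix.SpecialLinearGroup.mem_center_iff.2 ⟨-1, by norm_num, ?_⟩)
    rw [Matrix.SpecialLinearGroup.coe_mul]
    ext i j; fin_cases i <;> fin_cases j <;> simp [wEl, Matrix.mul_apply, Fin.sum_univ_two, Matrix.scalar_apply]
  · obtain ⟨c, hc⟩ := proj_inj_or (e.trans (map_one proj).symm)
    have := hc 0 1
    simp [wEl] at this

/-- An automorphism fixing an element commutes with conjugation by it. -/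
theorem commute_conj_of_fix {P : Type*} [Group P] {f : MulAut P} {x : P} (h : f x = x) :
    f * MulAut.conj x = MulAut.conj x * f :=
  MulEquiv.ext fun a => by simp [map_mul, h]

theorem isSquare_mul_map (σ : RingAut F) (d : Fˣ) : IsSquare (d * Units.map (σ : F →* F) d) := by
  obtain ⟨g, hg⟩ := IsCyclic.exists_generator (α := Fˣ)
  obtain ⟨i, hi⟩ := Subgroup.mem_zpowers_iff.1 (hg d)
  obtain ⟨s, hs⟩ := Subgroup.mem_zpowers_iff.1 (hg (Units.map (σ : F →* F) g))
  obtain ⟨k, hk⟩ | ⟨k, hk⟩ := Int.even_or_odd s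
  · -- then `g` is a square
    have hsq : IsSquare g := by
      refine ⟨Units.map (σ.symm : F →* F) (g ^ k), Units.ext ?_⟩
      have h1 : σ (g : F) = ((g ^ k * g ^ k : Fˣ) : F) := by
        rw [← zpow_add, ← hk, hs]; rfl
      show (g : F) = σ.symm ((g ^ k : Fˣ) : F) * σ.symm ((g ^ k : Fˣ) : F)
      rw [← map_mul, ← Units.val_mul, ← h1, RingEquiv.symm_apply_apply]
    rw [← hi, map_zpow]
    exact (hsq.zpow i).mul ((hsq.map (Units.map (σ : F →* F))).zpow i)
  · refine ⟨g ^ (i * (k + 1)), ?_⟩
    rw [← hi, map_zpow, ← hs, ← zpow_mul, ← zpow_add, ← zpow_add, hk]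
    congr 1; ring

theorem exists_sl_of_det_sq (g : GL (Fin 2) F) {c : Fˣ} (hc : g.1.det = (c : F) * c) :
    ∃ s : S2, g = scal c * Matrix.SpecialLinearGroup.toGL s := by
  refine ⟨⟨(c : F)⁻¹ • g.1, ?_⟩, Units.ext ?_⟩
  · rw [Matrix.det_smul, Fintype.card_fin, hc]
    field_simp
  · rw [Units.val_mul, scal_val]
    show g.1 = ((c : F) • (1 : Matrix (Fin 2) (Fin 2) F)) * ((c : F)⁻¹ • g.1)
    rw [Matrix.smul_mul, one_mul, smul_smul, mul_inv_cancel₀ c.ne_zero, one_smul]

theorem ind_dg_sq_mem {𝒢 : Subgroup (MulAut P2)} (hin : (MulAut.conj : P2 →* MulAut P2).range ≤ 𝒢)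
    {a : Fˣ} (ha : IsSquare a) : ind (dg a) 1 ∈ 𝒢 := by
  obtain ⟨c, rfl⟩ := ha
  obtain ⟨s, hs⟩ := exists_sl_of_det_sq (dg (c * c)) (c := c) (by simp [dg_val, Matrix.det_fin_two])
  rw [hs, ind_scal_mul, ← indHom_apply, ← conj_proj]
  exact hin ⟨_, rfl⟩

variable {𝒢 : Subgroup (MulAut (Matrix.ProjectiveSpecialLinearGroup (Fin 2) F))}
  (hin : (MulAut.conj : Matrix.ProjectiveSpecialLinearGroup (Fin 2) F →*
    MulAut (Matrix.ProjectiveSpecialLinearGroup (Fin 2) F)).range ≤ 𝒢) (hH : Hyp 𝒢)
include hin hH

theorem not_field_mem (h3 : 3 < Fintype.card F) (h4 : Fintype.card F ≠ 4) {σ : RingAut F} (hσ : σ ≠ 1) :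
    ind (1 : GL (Fin 2) F) σ ∉ 𝒢 := by
  classical
  intro hmem
  haveI : Finite (RingAut F) := Finite.of_injective _ DFunLike.coe_injective
  obtain ⟨r, hr, hrd⟩ := Nat.exists_prime_and_dvd (fun e => hσ (orderOf_eq_one_iff.1 e))
  haveI := Fact.mk hr
  set τ := σ ^ (orderOf σ / r) with hτ
  have hτo : orderOf τ = r := orderOf_pow_orderOf_div (orderOf_pos σ).ne' hrd
  have hτ1 : τ ≠ 1 := fun e => hr.ne_one (by rw [← hτo, e, orderOf_one])
  set f : MulAut P2 := ind 1 τ with hf
  have hfG : f ∈ 𝒢 := by
    rw [hf, ← fieldHom_apply, hτ, map_pow]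
    exact pow_mem (fieldHom_apply (n := 2) σ ▸ hmem) _
  have hfo : orderOf (⟨f, hfG⟩ : 𝒢) = r := by
    rw [Subgroup.orderOf_mk]
    refine orderOf_eq_prime ?_ fun e => hτ1 (eq_one_of_ind_eq_one le_rfl e).1
    rw [hf, ← fieldHom_apply, ← map_pow, ← hτo, pow_orderOf_eq_one, map_one]
  have hinj := conj_injective (n := 2) (F := F) le_rfl
  have hcomm : ∀ s : S2, slField τ s = s → f * MulAut.conj (proj s) = MulAut.conj (proj s) * f := fun s hs =>
    commute_conj_of_fix (by rw [hf, field_proj, hs])
  let cj : P2 → 𝒢 := fun x => ⟨MulAut.conj x, hin ⟨x, rfl⟩⟩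
  have cj_mul : ∀ x y, cj (x * y) = cj x * cj y := fun x y => Subtype.ext (map_mul _ _ _)
  have cj_inj : Function.Injective cj := fun x y e => hinj (congrArg Subtype.val e)
  have cj_ord : ∀ x, orderOf (cj x) = orderOf x := fun x => by
    rw [← Subgroup.orderOf_coe]
    exact orderOf_injective _ hinj x
  have cj_fix : ∀ s : S2, slField τ s = s → (⟨f, hfG⟩ : 𝒢) * cj (proj s) = cj (proj s) * ⟨f, hfG⟩ :=
    fun s hs => Subtype.ext (hcomm s hs)
  have hf1 : (⟨f, hfG⟩ : 𝒢) ≠ 1 := fun e => hr.ne_one (by rw [← hfo, e, orderOf_one])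
  by_cases hr2 : r = 2
  · -- a field automorphism of order two centralizes too much
    subst hr2
    obtain ⟨y, c, hyo, hy1, hyf, hcf, hyc⟩ : ∃ y c : S2, Odd (orderOf (proj y : P2)) ∧ (proj y : P2) ≠ 1 ∧
        slField τ y = y ∧ slField τ c = c ∧
        (proj c : P2) * proj y * (proj c)⁻¹ ∉ Subgroup.zpowers (proj y : P2) := by
      obtain ⟨p, hp, hch⟩ : ∃ p, p.Prime ∧ CharP F p := by
        obtain ⟨p, hch⟩ := CharP.exists F
        obtain ⟨n, hp, -⟩ := FiniteField.card F p
        exact ⟨p, hp, hch⟩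
      haveI := hch
      by_cases hp2 : p = 2
      · subst hp2
        have h11 : (1 : F) + 1 = 0 := CharTwo.add_self_eq_zero 1
        obtain ⟨a, ha0, ha1, haf⟩ : ∃ a : F, a ≠ 0 ∧ a ≠ 1 ∧ τ a = a := by
          by_contra hcon
          push Not at hcon
          have hττ : ∀ x, τ (τ x) = x := fun x => by
            have h2 : τ ^ 2 = 1 := by rw [← hτo, pow_orderOf_eq_one]
            rw [pow_two] at h2
            exact RingEquiv.congr_fun h2 x
          let Φ : F →+ F :=
            { toFun := fun x => x + τ x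
              map_zero' := by simp
              map_add' := fun x y => by rw [map_add]; ring }
          have hsub : ∀ x : F, τ x = x → x = 0 ∨ x = 1 := fun x hx => by
            by_contra hne
            push Not at hne
            exact hcon x hne.1 hne.2 hx
          have hker : Nat.card Φ.ker ≤ 2 := by
            refine le_trans (Nat.card_le_card_of_injective (fun x : Φ.ker => decide ((x : F) = 0))
              (fun x y e => Subtype.ext ?_)) (le_of_eq (by simp))
            have hx : τ (x : F) = x := by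
              have := x.2; rw [AddMonoidHom.mem_ker] at this
              exact (CharTwo.add_eq_zero.1 this).symm
            have hy : τ (y : F) = y := by
              have := y.2; rw [AddMonoidHom.mem_ker] at this
              exact (CharTwo.add_eq_zero.1 this).symm
            rcases hsub _ hx with e1 | e1 <;> rcases hsub _ hy with e2 | e2 <;> simp_all
          have hran : Nat.card Φ.range ≤ 2 := by
            refine le_trans (Nat.card_le_card_of_injective (fun x : Φ.range => decide ((x : F) = 0))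
              (fun x y e => Subtype.ext ?_)) (le_of_eq (by simp))
            have hx : τ (x : F) = x := by
              obtain ⟨a, ha⟩ := x.2
              rw [← ha]; show τ (a + τ a) = a + τ a
              rw [map_add, hττ, add_comm]
            have hy : τ (y : F) = y := by
              obtain ⟨a, ha⟩ := y.2
              rw [← ha]; show τ (a + τ a) = a + τ a
              rw [map_add, hττ, add_comm]
            rcases hsub _ hx with e1 | e1 <;> rcases hsub _ hy with e2 | e2 <;> simp_all
          have hcard : Nat.card Φ.ker * Nat.card Φ.range = Fintype.card F := by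
            rw [← AddSubgroup.index_ker, AddSubgroup.card_mul_index, Nat.card_eq_fintype_card]
          have := Nat.mul_le_mul hker hran
          omega
        refine ⟨yEl, hEl (Units.mk0 a ha0), ?_, ?_, ?_, ?_, ?_⟩
        · refine (show Odd 3 by decide).of_dvd_nat (orderOf_dvd_of_pow_eq_one ?_)
          rw [← map_pow, ← map_one proj]
          refine congrArg proj (Subtype.ext ?_)
          rw [Matrix.SpecialLinearGroup.coe_pow, pow_succ, pow_two, Matrix.SpecialLinearGroup.coe_one]
          ext i j; fin_cases i <;> fin_cases j <;>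
            simp [yEl, Matrix.mul_apply, Fin.sum_univ_two, CharTwo.neg_eq, h11]
        · intro e
          obtain ⟨k, hk⟩ := proj_inj_or (e.trans (map_one proj).symm)
          have := hk 0 1
          simp [yEl] at this
        · refine Subtype.ext ?_
          rw [slField_val]
          ext i j; fin_cases i <;> fin_cases j <;> simp [yEl]
        · refine Subtype.ext ?_
          rw [slField_val]
          ext i j; fin_cases i <;> fin_cases j <;> simp [hEl, haf]
        · intro hz
          rw [← map_inv, ← map_mul, ← map_mul, ← MonoidHom.map_zpowers] at hz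
          obtain ⟨B, ⟨k, rfl⟩, hB⟩ := hz
          obtain ⟨c, hc⟩ := proj_inj_or hB.symm
          have hY3 : (yEl : S2) ^ (3 : ℤ) = 1 := by
            rw [show (3 : ℤ) = ((3 : ℕ) : ℤ) by rfl, zpow_natCast]
            refine Subtype.ext ?_
            rw [Matrix.SpecialLinearGroup.coe_pow, pow_succ, pow_two, Matrix.SpecialLinearGroup.coe_one]
            ext i j; fin_cases i <;> fin_cases j <;>
              simp [yEl, Matrix.mul_apply, Fin.sum_univ_two, CharTwo.neg_eq, h11]
          have hkm : (yEl : S2) ^ k = yEl ^ (k % 3) := by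
            conv_lhs => rw [← Int.emod_add_ediv_mul k 3, zpow_add, mul_comm (k / 3), zpow_mul, hY3, one_zpow, mul_one]
          simp only [hkm] at hc
          have hcases : k % 3 = 0 ∨ k % 3 = 1 ∨ k % 3 = 2 := by omega
          have hv : (hEl (Units.mk0 a ha0) * yEl * (hEl (Units.mk0 a ha0))⁻¹ : S2).1 =
              !![0, a * a; (a * a)⁻¹, 1] := by
            rw [Matrix.SpecialLinearGroup.coe_mul, Matrix.SpecialLinearGroup.coe_mul,
              Matrix.SpecialLinearGroup.coe_inv, Matrix.adjugate_fin_two]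
            ext i j; fin_cases i <;> fin_cases j <;>
              simp [yEl, hEl, Matrix.mul_apply, Fin.sum_univ_two, CharTwo.neg_eq, ha0]
          have h01 := hc 0 1
          have h11' := hc 1 1
          rw [hv] at h01 h11'
          rcases hcases with e | e | e
          · rw [e, zpow_zero] at h01
            simp [yEl, hEl, Matrix.SpecialLinearGroup.coe_inv, Matrix.adjugate_fin_two, Matrix.mul_apply,
              Fin.sum_univ_two, CharTwo.neg_eq, ha0] at h01
          · rw [e, zpow_one] at h01 h11'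
            simp [yEl, hEl, Matrix.SpecialLinearGroup.coe_inv, Matrix.adjugate_fin_two, Matrix.mul_apply, Fin.sum_univ_two,
              CharTwo.neg_eq, ha0] at h01 h11'
            refine ha1 ?_
            have : (a - 1) * (a - 1) = 0 := by linear_combination h01 - h11' + (1 - a) * h11
            exact sub_eq_zero.1 (mul_self_eq_zero.1 this)
          · rw [e, zpow_two, Matrix.SpecialLinearGroup.coe_mul] at h11'
            simp [yEl, hEl, Matrix.SpecialLinearGroup.coe_inv, Matrix.adjugate_fin_two, Matrix.mul_apply, Fin.sum_univ_two,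
              CharTwo.neg_eq, ha0, h11] at h11'
      · refine ⟨up 1, wEl, ?_, ?_, slField_up_one τ, slField_wEl τ, ?_⟩
        · have h1 : (up (1 : F) : S2) ^ p = 1 := by
            have hk : ∀ k : ℕ, (up (1 : F) : S2) ^ k = up (k : F) := by
              intro k
              induction k with
              | zero =>
                refine Subtype.ext ?_
                ext i j; fin_cases i <;> fin_cases j <;> simp
              | succ k ih =>
                rw [pow_succ, ih]
                refine Subtype.ext ?_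
                rw [Matrix.SpecialLinearGroup.coe_mul]
                ext i j
                fin_cases i <;> fin_cases j <;> simp [Matrix.mul_apply, Fin.sum_univ_two] <;> ring
            rw [hk, CharP.cast_eq_zero]
            refine Subtype.ext ?_
            ext i j; fin_cases i <;> fin_cases j <;> simp
          exact (hp.odd_of_ne_two hp2).of_dvd_nat (orderOf_dvd_of_pow_eq_one (by rw [← map_pow, h1, map_one]))
        · intro e
          obtain ⟨k, hk⟩ := proj_inj_or (e.trans (map_one proj).symm)
          have := hk 0 1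
          simp at this
        · intro hz
          rw [← map_inv, ← map_mul, ← map_mul, ← MonoidHom.map_zpowers] at hz
          obtain ⟨B, ⟨k, rfl⟩, hB⟩ := hz
          obtain ⟨c, hc⟩ := proj_inj_or hB.symm
          have hlow : ∀ k : ℤ, ((up (1 : F) : S2) ^ k).1 1 0 = 0 := by
            let Bor : Subgroup S2 :=
              { carrier := {M | M.1 1 0 = 0}
                one_mem' := by simp
                mul_mem' := fun {a b} ha hb => by
                  show (a * b).1 1 0 = 0
                  rw [Matrix.SpecialLinearGroup.coe_mul, Matrix.mul_apply, Fin.sum_univ_two]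
                  simp [show a.1 1 0 = 0 from ha, show b.1 1 0 = 0 from hb]
                inv_mem' := fun {a} ha => by
                  show (a⁻¹).1 1 0 = 0
                  rw [Matrix.SpecialLinearGroup.coe_inv, Matrix.adjugate_fin_two]
                  simp [show a.1 1 0 = 0 from ha] }
            exact fun k => zpow_mem (show up (1 : F) ∈ Bor by show (up (1 : F) : S2).1 1 0 = 0; simp) k
          have := hc 1 0
          rw [hlow, mul_zero, Matrix.SpecialLinearGroup.coe_mul, Matrix.SpecialLinearGroup.coe_mul,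
            Matrix.SpecialLinearGroup.coe_inv, Matrix.adjugate_fin_two] at this
          simp [wEl, Matrix.SpecialLinearGroup.coe_inv, Matrix.adjugate_fin_two, Matrix.mul_apply,
            Fin.sum_univ_two] at this
    refine hyc ?_
    have key := (hH.odd (cj (proj y)) ⟨f, hfG⟩ (cj (proj c)) hfo
      (fun e => hy1 (cj_inj (e.trans (Subtype.ext (map_one _).symm))))
      (by rw [cj_ord]; exact hyo) (cj_fix y hyf).symm).2 (cj_fix c hcf).symm
    let C : P2 →* 𝒢 := MonoidHom.mk' cj cj_mul
    rw [show cj (proj c) * cj (proj y) * (cj (proj c))⁻¹ = C (proj c * proj y * (proj c)⁻¹) by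
      rw [map_mul, map_mul, map_inv]; rfl] at key
    rw [show cj (proj y) = C (proj y) from rfl, ← MonoidHom.map_zpowers] at key
    exact (Subgroup.mem_map_iff_mem (f := C) cj_inj).1 key
  · -- a field automorphism of odd order
    have key := (hH.odd ⟨f, hfG⟩ (cj (proj wEl)) (cj (proj (up (1 : F)))) (by rw [cj_ord, orderOf_proj_wEl])
      hf1 (by rw [hfo]; exact hr.odd_of_ne_two hr2) (cj_fix _ (slField_wEl τ))).1
      (by rw [← cj_fix _ (slField_up_one τ), mul_inv_cancel_right]; exact Subgroup.mem_zpowers _)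
    rw [← cj_mul, ← cj_mul, ← map_mul, ← map_mul] at key
    obtain ⟨c, hc⟩ := proj_inj_or (cj_inj key)
    have h00 := hc 0 0
    rw [Matrix.SpecialLinearGroup.coe_mul, Matrix.SpecialLinearGroup.coe_mul] at h00
    simp [wEl, Matrix.mul_apply, Fin.sum_univ_two] at h00

theorem field_part_trivial (h3 : 3 < Fintype.card F) (h4 : Fintype.card F ≠ 4) {g : GL (Fin 2) F}
    {σ : RingAut F} (hmem : ind g σ ∈ 𝒢) : σ = 1 := by
  classical
  by_contra hσ
  -- replace `g` by `diag (d, 1)` within the square class of its determinant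
  have hd : ∀ d : Fˣ, IsSquare ((Matrix.GeneralLinearGroup.det g) * d⁻¹) → ind (dg d) σ ∈ 𝒢 := by
    rintro d ⟨c, hc⟩
    have hdet : (g * (dg d)⁻¹).1.det = (c : F) * c := by
      rw [show (g * (dg d)⁻¹).1.det = ((Matrix.GeneralLinearGroup.det (g * (dg d)⁻¹) : Fˣ) : F) from rfl, map_mul,
        map_inv, show Matrix.GeneralLinearGroup.det (dg d) = d from Units.ext (by
          show (dg d).1.det = d; simp [dg_val, Matrix.det_fin_two]), hc, Units.val_mul]
    obtain ⟨s, hs⟩ := exists_sl_of_det_sq _ hdet
    have hi : ind (g * (dg d)⁻¹) 1 ∈ 𝒢 := by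
      rw [hs, ind_scal_mul, ← indHom_apply, ← conj_proj]
      exact hin ⟨_, rfl⟩
    have := mul_mem (inv_mem hi) hmem
    rwa [show ind g σ = ind (g * (dg d)⁻¹) 1 * ind (dg d) σ by
      rw [ind_mul, one_mul, show glField (1 : RingAut F) (dg d) = dg d from Units.ext (Matrix.ext fun _ _ => rfl),
        inv_mul_cancel_right], inv_mul_cancel_left] at this
  set e := Matrix.GeneralLinearGroup.det g
  by_cases hsq : IsSquare e
  · have := hd 1 (by rwa [inv_one, mul_one])
    rw [dg_one] at this
    exact not_field_mem hin hH h3 h4 hσ this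
  obtain ⟨d, hgen⟩ := IsCyclic.exists_generator (α := Fˣ)
  have hed : IsSquare (e * d⁻¹) := by
    obtain ⟨i, hi⟩ := Subgroup.mem_zpowers_iff.1 (hgen e)
    obtain ⟨k, hk⟩ | ⟨k, hk⟩ := Int.even_or_odd i
    · exact absurd ⟨d ^ k, by rw [← zpow_add, ← hk, hi]⟩ hsq
    · exact ⟨d ^ k, by rw [← zpow_add, ← hi, hk, ← zpow_sub_one]; congr 1; ring⟩
  have hβ := hd d hed
  set β := ind (dg d) σ with hβdef
  set N := d * Units.map (σ : F →* F) d with hN
  have hβ2 : β * β = ind (dg N) (σ * σ) := by rw [hβdef, ind_mul, glField_dg, ← dg_mul]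
  by_cases hσ2 : σ * σ = 1
  swap
  · refine not_field_mem hin hH h3 h4 hσ2 ?_
    have := mul_mem (inv_mem (ind_dg_sq_mem hin (isSquare_mul_map σ d))) (mul_mem hβ hβ)
    rwa [hβ2, show ind (dg N) (σ * σ) = ind (dg N) 1 * ind (1 : GL (Fin 2) F) (σ * σ) from
      (ind_mul_fieldHom _ _).symm, ← hN, inv_mul_cancel_left] at this
  rw [hσ2] at hβ2
  have hne : (-1 : F) ≠ 1 := by
    intro e1
    obtain ⟨p, hch⟩ := CharP.exists F
    refine hsq ?_
    have h2 : ringChar F = 2 := ringChar.eq_iff.2 (CharTwo.of_one_ne_zero_of_two_eq_zero one_ne_zero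
      (by linear_combination -e1))
    obtain ⟨r, hr⟩ := FiniteField.isSquare_of_char_two h2 (e : F)
    have hr0 : r ≠ 0 := fun e0 => e.ne_zero (by rw [hr, e0, mul_zero])
    exact ⟨Units.mk0 r hr0, Units.ext hr⟩
  have hσfix : ∀ x : F, σ (σ x) = x := fun x => RingEquiv.congr_fun hσ2 x
  -- a norm equal to `-1`
  obtain ⟨i, hNi⟩ : ∃ i : ℤ, ((N ^ i : Fˣ) : F) = -1 := by
    obtain ⟨x, hx⟩ : ∃ x : F, x * σ x = -1 := by
      by_cases hi : ∃ r : F, r * r = -1
      · obtain ⟨r, hr⟩ := hi
        have hσr : σ r * σ r = -1 := by rw [← map_mul, hr, map_neg, map_one]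
        rcases mul_self_eq_mul_self_iff.1 (hσr.trans hr.symm) with h' | h'
        · exact ⟨r, by rw [h', hr]⟩
        · obtain ⟨p, hch⟩ := CharP.exists F
          haveI : NeZero p := ⟨(CharP.char_is_prime F p).ne_zero⟩
          obtain ⟨a, b, hab⟩ := CharP.sq_add_sq F p (-1)
          refine ⟨(a : F) + (b : F) * r, ?_⟩
          rw [map_add, map_mul, map_natCast, map_natCast, h']
          push_cast at hab
          linear_combination hab + (-((b : F) ^ 2)) * hr
      · -- `σ` moves a square root of `-1` if there is one; otherwise use the fixed squares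
        exfalso
        refine hi ?_
        have hq : ∃ r : F, σ r = -r ∧ r ≠ 0 := by
          by_contra hcon
          push Not at hcon
          refine hσ (RingEquiv.ext fun x => ?_)
          have := hcon (x - σ x) (by rw [map_sub, hσfix]; ring)
          exact (sub_eq_zero.1 this).symm
        obtain ⟨r, hr, hr0⟩ := hq
        by_contra hno
        have hm : Fintype.card F % 4 = 3 :=
          by_contra fun hne' => hno (by
            obtain ⟨s, hs⟩ := FiniteField.isSquare_neg_one_iff.2 hne'
            exact ⟨s, hs.symm⟩)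
        -- the involution `σ` has the fixed field with `q₀` elements and `q = q₀²`
        let Φ : F →+ F :=
          { toFun := fun x => x - σ x
            map_zero' := by simp
            map_add' := fun x y => by rw [map_add]; ring }
        have hker : ∀ x, x ∈ Φ.ker ↔ σ x = x := fun x => by
          rw [AddMonoidHom.mem_ker]; exact sub_eq_zero.trans eq_comm
        have hran : ∀ x, x ∈ Φ.range → σ x = -x := by
          rintro _ ⟨a, rfl⟩
          show σ (a - σ a) = -(a - σ a)
          rw [map_sub, hσfix]; ring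
        have hsq' : Nat.card Φ.ker = Nat.card Φ.range := by
          refine le_antisymm ?_ (Nat.card_le_card_of_injective (fun x : Φ.range => (⟨r * x.1, (hker _).2 (by
            rw [map_mul, hr, hran _ x.2]; ring)⟩ : Φ.ker)) fun x y h => Subtype.ext
              (mul_left_cancel₀ hr0 (congrArg (fun z : Φ.ker => (z : F)) h)))
          have h2 : (2 : F) ≠ 0 := fun h2 => hne (by linear_combination -h2)
          refine Nat.card_le_card_of_injective (fun x : Φ.ker => (⟨r * x.1, r * x.1 / 2, by
              show r * x.1 / 2 - σ (r * x.1 / 2) = r * x.1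
              rw [map_div₀, map_mul, hr, (hker _).1 x.2, show σ (2 : F) = 2 from map_ofNat σ 2]
              field_simp; ring⟩ : Φ.range)) fun x y h => Subtype.ext
              (mul_left_cancel₀ hr0 (congrArg (fun z : Φ.range => (z : F)) h))
        have hcard : Nat.card Φ.ker * Nat.card Φ.range = Fintype.card F := by
          rw [← AddSubgroup.index_ker, AddSubgroup.card_mul_index, Nat.card_eq_fintype_card]
        rw [← hcard, ← hsq', Nat.mul_mod] at hm
        have := Nat.mod_lt (Nat.card Φ.ker) (by norm_num : 4 > 0)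
        interval_cases (Nat.card Φ.ker % 4) <;> omega
    have hx0 : x ≠ 0 := fun e0 => by rw [e0, zero_mul] at hx; exact one_ne_zero (neg_eq_zero.1 hx.symm)
    obtain ⟨i, hi⟩ := Subgroup.mem_zpowers_iff.1 (hgen (Units.mk0 x hx0))
    refine ⟨i, ?_⟩
    rw [hN, mul_zpow, ← map_zpow, hi]
    exact hx
  set t : MulAut P2 := (β * β) ^ i with ht
  have hti : t = ind (dg (N ^ i)) 1 := by
    have hdh : ∀ a : Fˣ, ind (dg a) 1 = indHom.comp (MonoidHom.mk' dg dg_mul) a := fun a => rfl
    rw [ht, hβ2, hdh, hdh, map_zpow]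
  have hNf : σ (N : F) = N := by
    show σ ((d : F) * σ d) = (d : F) * σ d
    rw [map_mul, hσfix, mul_comm]
  have ht2 : t * t = 1 := by
    have : N ^ i * N ^ i = 1 := Units.ext (by rw [Units.val_mul, hNi]; simp)
    rw [hti, ind_mul, one_mul, show glField (1 : RingAut F) (dg (N ^ i)) = dg (N ^ i) from
      Units.ext (Matrix.ext fun _ _ => rfl), ← dg_mul, this, dg_one, ind_one]
  have ht1 : t ≠ 1 := by
    intro e1
    rw [hti] at e1
    obtain ⟨-, c, -, hc⟩ := eq_one_of_ind_eq_one le_rfl e1
    have h00 := congrFun (congrFun hc 0) 0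
    have h11 := congrFun (congrFun hc 1) 1
    simp [dg_val] at h00 h11
    rw [← Units.val_zpow_eq_zpow_val, hNi, ← h11] at h00
    exact hne h00
  have htG : t ∈ 𝒢 := zpow_mem (mul_mem hβ hβ) i
  set w : MulAut P2 := ind (Matrix.SpecialLinearGroup.toGL (wEl : S2)) 1 with hw
  have hwG : w ∈ 𝒢 := by rw [hw, ← indHom_apply, ← conj_proj]; exact hin ⟨_, rfl⟩
  have hone : ∀ x : GL (Fin 2) F, glField (1 : RingAut F) x = x := fun x => Units.ext (Matrix.ext fun _ _ => rfl)
  have hwt : w * t = t * w := by
    rw [hti, hw, ind_mul, ind_mul, hone, hone, one_mul]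
    have : dg (N ^ i) * Matrix.SpecialLinearGroup.toGL (wEl : S2) =
        scal (-1) * (Matrix.SpecialLinearGroup.toGL (wEl : S2) * dg (N ^ i)) := Units.ext (by
      rw [Units.val_mul, Units.val_mul, Units.val_mul, scal_val, dg_val, hNi]
      show !![(-1 : F), 0; 0, 1] * !![0, 1; -1, 0] =
        (((-1 : Fˣ) : F) • (1 : Matrix (Fin 2) (Fin 2) F)) * (!![0, 1; -1, 0] * !![-1, 0; 0, 1])
      ext a b; fin_cases a <;> fin_cases b <;> simp [Matrix.mul_apply, Fin.sum_univ_two])
    rw [this, ind_scal_mul]
  have key := hH.fix ⟨β, hβ⟩ ⟨t, htG⟩ ⟨w, hwG⟩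
    (by rw [Subgroup.orderOf_mk]; exact orderOf_eq_prime (by rw [pow_two]; exact ht2) ht1)
    (Subgroup.mem_zpowers_iff.2 ⟨2 * i, Subtype.ext (by
      show ((⟨β, hβ⟩ : 𝒢) ^ (2 * i) : 𝒢).1 = t
      rw [Subgroup.coe_zpow, zpow_mul, zpow_two, ht])⟩)
    (Subtype.ext hwt)
  obtain ⟨j, hj⟩ := Subgroup.mem_zpowers_iff.1 key
  have hj' : β ^ j = w * β * w⁻¹ := by
    have := congrArg Subtype.val hj
    simpa using this
  have hwβ : w * β * w⁻¹ = ind (dg d⁻¹) σ := by
    rw [mul_inv_eq_iff_eq_mul, hw, hβdef, ind_mul, ind_mul, one_mul, mul_one, hone,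
      show glField σ (Matrix.SpecialLinearGroup.toGL (wEl : S2)) = Matrix.SpecialLinearGroup.toGL (wEl : S2) from
        Units.ext (congrArg Subtype.val (slField_wEl σ))]
    have : Matrix.SpecialLinearGroup.toGL (wEl : S2) * dg d =
        scal d * (dg d⁻¹ * Matrix.SpecialLinearGroup.toGL (wEl : S2)) := Units.ext (by
      rw [Units.val_mul, Units.val_mul, Units.val_mul, scal_val, dg_val, dg_val]
      show !![(0 : F), 1; -1, 0] * !![(d : F), 0; 0, 1] =
        ((d : F) • (1 : Matrix (Fin 2) (Fin 2) F)) * (!![((d⁻¹ : Fˣ) : F), 0; 0, 1] * !![0, 1; -1, 0])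
      ext a b; fin_cases a <;> fin_cases b <;> simp [Matrix.mul_apply, Fin.sum_univ_two])
    rw [this, ind_scal_mul]
  -- the powers of `β`
  have hodd : ∀ k : ℤ, ∃ a : Fˣ, σ (a : F) = a ∧ (β ^ (2 * k) = ind (dg a) 1 ∧ β ^ (2 * k + 1) = ind (dg (a * d)) σ) := by
    intro k
    refine ⟨N ^ k, ?_, ?_, ?_⟩
    · have hu : Units.map (σ : F →* F) N = N := Units.ext hNf
      have := congrArg Units.val (show Units.map (σ : F →* F) (N ^ k) = N ^ k by rw [map_zpow, hu])
      exact this
    · rw [zpow_mul, zpow_two, hβ2,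
        show ind (dg N) 1 = indHom.comp (MonoidHom.mk' dg dg_mul) N from rfl, ← map_zpow]
      rfl
    · rw [zpow_add_one, zpow_mul, zpow_two, hβ2,
        show ind (dg N) 1 = indHom.comp (MonoidHom.mk' dg dg_mul) N from rfl, ← map_zpow]
      show ind (dg (N ^ k)) 1 * β = _
      rw [hβdef, ind_mul, hone, ← dg_mul, one_mul]
  have huniq : ∀ a b : Fˣ, ∀ σ' : RingAut F, ind (dg a) σ' = ind (dg b) σ → σ' = σ ∧ a = b := by
    intro a b σ' e1
    have h1 : ind (dg (b⁻¹ * a)) 1 * ind (1 : GL (Fin 2) F) σ' = ind 1 σ := by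
      rw [ind_mul, one_mul, map_one, mul_one]
      have := congrArg (ind (dg b⁻¹) 1 * ·) e1
      simp only [ind_mul, one_mul, hone, ← dg_mul, inv_mul_cancel, dg_one] at this
      exact this
    have h2 : ind (dg (b⁻¹ * a)) (σ' * σ⁻¹) = 1 := by
      have := congrArg (· * fieldHom (n := 2) σ⁻¹) h1
      simp only [fieldHom_apply, ind_mul, map_one, mul_one, one_mul, mul_inv_cancel, ind_one] at this
      exact this
    obtain ⟨h5, c, -, hc⟩ := eq_one_of_ind_eq_one le_rfl h2
    have h00 := congrFun (congrFun hc 0) 0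
    have h11 := congrFun (congrFun hc 1) 1
    simp [dg_val] at h00 h11
    rw [← h11] at h00
    exact ⟨mul_inv_eq_one.1 h5, (inv_mul_eq_one.1 (Units.ext (by simpa using h00) : b⁻¹ * a = 1)).symm⟩
  rw [hwβ] at hj'
  obtain ⟨k, rfl⟩ | ⟨k, rfl⟩ := Int.even_or_odd j
  · obtain ⟨a, -, h1, -⟩ := hodd k
    rw [← two_mul, h1] at hj'
    exact hσ (huniq _ _ _ hj').1.symm
  · obtain ⟨a, haf, -, h2⟩ := hodd k
    rw [h2] at hj'
    have e1 : a * d = d⁻¹ := (huniq _ _ _ hj').2
    have e2 : σ ((d : F) * d) = (d : F) * d := by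
      have h5 : a * (d * d) = 1 := by rw [← mul_assoc, e1, inv_mul_cancel]
      have h6 : (a : F) * ((d : F) * d) = 1 := by rw [← Units.val_mul, ← Units.val_mul, h5, Units.val_one]
      have h7 : (a : F) * σ ((d : F) * d) = 1 := by rw [← haf, ← map_mul, h6, map_one]
      exact mul_left_cancel₀ a.ne_zero (h7.trans h6.symm)
    -- every square is fixed
    have hall : ∀ x : F, σ (x * x) = x * x := by
      intro x
      by_cases hx : x = 0
      · simp [hx]
      · obtain ⟨m, hm⟩ := Subgroup.mem_zpowers_iff.1 (hgen (Units.mk0 x hx))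
        have h8 : Units.map (σ : F →* F) (d * d) = d * d := Units.ext e2
        have h9 : Units.map (σ : F →* F) ((d * d) ^ m) = (d * d) ^ m := by rw [map_zpow, h8]
        rw [mul_zpow, hm] at h9
        exact congrArg Units.val h9
    refine hσ (RingEquiv.ext fun x => ?_)
    have h2' : (2 : F) ≠ 0 := fun h2' => hne (by linear_combination -h2')
    have h10 := hall (x + 1)
    rw [map_mul, map_add, map_one] at h10
    have h11 := hall x
    rw [map_mul] at h11
    refine mul_left_cancel₀ h2' ?_
    show 2 * σ x = 2 * x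
    linear_combination h10 - h11

/-- Every element is induced by a matrix. -/
theorem le_range_indHom (h3 : 3 < Fintype.card F) (h4 : Fintype.card F ≠ 4) :
    𝒢 ≤ (indHom : GL (Fin 2) F →* MulAut P2).range := by
  intro β hβ
  obtain ⟨g, σ, h | ⟨h', -⟩⟩ := aut_classify le_rfl β
  · subst h
    rw [field_part_trivial hin hH h3 h4 hβ]
    exact ⟨g, rfl⟩
  · omega

/-- `PSL` or `PGL`. -/
theorem psl_or_pgl (h3 : 3 < Fintype.card F) (h4 : Fintype.card F ≠ 4) :
    Nonempty (𝒢 ≃* P2) ∨ Nonempty (𝒢 ≃* Matrix.ProjGenLinGroup (Fin 2) F) := by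
  classical
  by_cases hinner : 𝒢 ≤ (MulAut.conj : P2 →* MulAut P2).range
  · exact Or.inl ⟨(MulEquiv.subgroupCongr (le_antisymm hinner hin)).trans
      (MonoidHom.ofInjective (conj_injective (n := 2) (F := F) le_rfl)).symm⟩
  · right
    have hle := le_range_indHom hin hH h3 h4
    obtain ⟨γ, hγ, hγn⟩ := SetLike.not_le_iff_exists.1 hinner
    obtain ⟨g, rfl⟩ := hle hγ
    have hsq : ∀ x : GL (Fin 2) F, IsSquare (Matrix.GeneralLinearGroup.det x) →
        indHom x ∈ (MulAut.conj : P2 →* MulAut P2).range := by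
      rintro x ⟨c, hc⟩
      obtain ⟨s, hs⟩ := exists_sl_of_det_sq x (c := c) (by
        rw [show x.1.det = ((Matrix.GeneralLinearGroup.det x : Fˣ) : F) from rfl, hc, Units.val_mul])
      rw [indHom_apply, hs, ind_scal_mul, ← indHom_apply, ← conj_proj]
      exact ⟨_, rfl⟩
    have heq : 𝒢 = (indHom : GL (Fin 2) F →* MulAut P2).range := by
      refine le_antisymm hle ?_
      rintro _ ⟨x, rfl⟩
      by_cases hx : IsSquare (Matrix.GeneralLinearGroup.det x)
      · exact hin (hsq x hx)
      · obtain ⟨d, hgen⟩ := IsCyclic.exists_generator (α := Fˣ)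
        obtain ⟨a, ha⟩ := Subgroup.mem_zpowers_iff.1 (hgen (Matrix.GeneralLinearGroup.det x))
        obtain ⟨b, hb⟩ := Subgroup.mem_zpowers_iff.1 (hgen (Matrix.GeneralLinearGroup.det g))
        have ho : ∀ k : ℤ, ¬ IsSquare (d ^ k) → Odd k := fun k hk => by
          rcases Int.even_or_odd k with ⟨m, rfl⟩ | h'
          · exact absurd ⟨d ^ m, zpow_add _ _ _⟩ hk
          · exact h'
        obtain ⟨m, hm⟩ : Even (a - b) :=
          (ho a (ha ▸ hx)).sub_odd (ho b (hb ▸ fun e => hγn (hsq g e)))
        have hmem : indHom (x * g⁻¹) ∈ 𝒢 := hin (hsq _ ⟨d ^ m, by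
          rw [map_mul, map_inv, ← ha, ← hb, ← zpow_sub, ← zpow_add, hm]⟩)
        have := mul_mem hmem hγ
        rwa [← map_mul, inv_mul_cancel_right] at this
    have hker : (indHom : GL (Fin 2) F →* MulAut P2).ker = Subgroup.center (GL (Fin 2) F) := by
      ext x
      rw [MonoidHom.mem_ker]
      constructor
      · intro e
        obtain ⟨c, hc⟩ := scalar_of_indHom le_rfl e
        refine Subgroup.mem_center_iff.2 fun y => Units.ext ?_
        rw [Units.val_mul, Units.val_mul, hc, Matrix.mul_smul, Matrix.smul_mul, one_mul, mul_one]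
      · intro hx
        refine MulEquiv.ext fun y => ?_
        obtain ⟨s, rfl⟩ := QuotientGroup.mk'_surjective _ y
        show proj (slConj x (slField 1 s)) = proj s
        refine congrArg proj (Subtype.ext ?_)
        rw [slConj_val, slField_val]
        have h1 := congrArg Units.val (Subgroup.mem_center_iff.1 hx (Matrix.SpecialLinearGroup.toGL s))
        rw [show s.1.map (⇑(1 : RingAut F)) = s.1 from Matrix.ext fun _ _ => rfl,
          show x.1 * s.1 = s.1 * x.1 from h1.symm, mul_assoc, Units.mul_inv, mul_one]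
    exact ⟨((MulEquiv.subgroupCongr heq).trans (QuotientGroup.quotientKerEquivRange indHom).symm).trans
      (QuotientGroup.quotientMulEquivOfEq hker)⟩

end CfsgLib.NormPSL
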