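import Cfsg.Agent.Lib.NormPSL.Simple
import Cfsg.Agent.Lib.NormPSL.Outer
import Cfsg.Agent.Lib.Coprime.Fitting
import Cfsg.Agent.S0252
import Cfsg.Agent.S0253

/-!
# The normalizer characterization of `PSL₂(q)` and `PGL₂(q)`
-/

set_option autoImplicit false
set_option linter.unusedSectionVars false
set_option linter.style.haveILetI false

namespace CfsgLib.NormPSL

open Subgroup

variable {G : Type*} [Group G] [Finite G]

/-- A minimal normal subgroup is simple and has trivial centralizer. -/
theorem exists_simple_normal [Nontrivial G] (h : Hyp G)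
    (hss : ∀ N : Subgroup G, N.Normal → Group.IsSolvable N → N = ⊥) :
    ∃ N : Subgroup G, N.Normal ∧ IsSimpleGroup N ∧ ¬ IsMulCommutative N ∧
      ∀ g : G, (∀ x ∈ N, g * x = x * g) → g = 1 := by
  classical
  haveI : Fact (Nat.Prime 2) := ⟨Nat.prime_two⟩
  have hfit : Cfsg.fittingSubgroup G = ⊥ := by
    haveI := CfsgLib.Coprime.fitting_normal (G := G)
    haveI := CfsgLib.Coprime.fitting_isNilpotent (G := G)
    exact hss _ inferInstance inferInstance
  have hne : (⊤ : Subgroup G) ≠ ⊥ := top_ne_bot
  obtain ⟨N, hN, hN1, -, hmin⟩ := CfsgLib.Coprime.exists_minimal_normal_le (N := (⊤ : Subgroup G)) hne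
  haveI := hN
  haveI : Nontrivial N := (nontrivial_iff_ne_bot N).2 hN1
  -- involutions give soluble centralizers
  have hsol : ∀ (H : Subgroup G) (t : G), orderOf t = 2 → (∀ x ∈ H, x * t = t * x) → Group.IsSolvable H := by
    intro H t ht hH
    haveI := h.solvable_centralizer ht
    exact Group.isSolvable_of_isSolvable_injective
      (f := Subgroup.inclusion (fun x hx => mem_centralizer_singleton_iff.2 (hH x hx) :
        H ≤ centralizer ({t} : Set G))) (Subgroup.inclusion_injective _)
  -- minimal normal subgroups of `N` are insoluble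
  have hins : ∀ M : Subgroup N, M.Normal → M ≠ ⊥ → (∀ K : Subgroup N, K.Normal → K ≤ M → K = ⊥ ∨ K = M) →
      ¬ Group.IsSolvable M := by
    intro M hM hM1 hMmin hMs
    haveI := hM
    haveI := hMs
    obtain ⟨hc, -⟩ := CfsgLib.Coprime.minimal_normal_solvable hM1 hMmin
    haveI : IsMulCommutative M := ⟨⟨fun a b => Subtype.ext (hc a a.2 b b.2)⟩⟩
    haveI : Group.IsNilpotent M := by
      letI : CommGroup M := { (inferInstance : Group M) with mul_comm := fun a b => Subtype.ext (hc a a.2 b b.2) }
      exact CommGroup.isNilpotent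
    have hle := Subgroup.map_mono (f := N.subtype) (CfsgLib.Coprime.le_fitting (N := M) inferInstance)
    rw [CfsgLib.Coprime.fitting_map_subtype_eq, hfit, bot_inf_eq, le_bot_iff,
      Subgroup.map_eq_bot_iff_of_injective _ N.subtype_injective] at hle
    exact hM1 hle
  obtain ⟨M, hM, hM1, -, hMmin⟩ := CfsgLib.Coprime.exists_minimal_normal_le (N := (⊤ : Subgroup N)) top_ne_bot
  haveI := hM
  have hMins := hins M hM hM1 hMmin
  -- an involution in `M`
  obtain ⟨v, hv⟩ : ∃ v : M, orderOf v = 2 := by
    refine exists_prime_orderOf_dvd_card' 2 ?_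
    by_contra hd
    exact hMins (Cfsg.Agent.S0205.result (Nat.odd_iff.2 (by omega)))
  have hvG : orderOf (((v : N) : G)) = 2 := by rw [Subgroup.orderOf_coe, Subgroup.orderOf_coe, hv]
  -- `M` is normal in `G`
  set M' := M.map N.subtype with hM'
  have hM'n : M'.Normal := by
    refine ⟨fun x hx g => ?_⟩
    let φ : N ≃* N := MulAut.conjNormal g
    haveI : (M.map φ.toMonoidHom).Normal := Subgroup.Normal.map hM _ φ.surjective
    suffices heq : M.map φ.toMonoidHom = M by
      obtain ⟨x', hx', rfl⟩ := hx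
      exact ⟨φ x', heq ▸ ⟨x', hx', rfl⟩, by simp [φ]⟩
    by_contra hne'
    have hint : M ⊓ M.map φ.toMonoidHom = ⊥ := by
      refine (hMmin _ inferInstance inf_le_left).resolve_right fun e => hne' ?_
      refine (eq_of_le_of_card_ge (inf_eq_left.1 e) ?_).symm
      exact le_of_eq (Nat.card_congr (M.equivMapOfInjective φ.toMonoidHom φ.injective).toEquiv).symm
    refine hMins ?_
    have := hsol M' (((φ (v : N) : N) : G)) (by
      rw [Subgroup.orderOf_coe, MulEquiv.orderOf_eq, Subgroup.orderOf_coe, hv]) (by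
      rintro _ ⟨x', hx', rfl⟩
      exact congrArg Subtype.val (Subgroup.commute_of_normal_of_disjoint M (M.map φ.toMonoidHom) hM inferInstance
        (disjoint_iff.2 hint) x' (φ v) hx' ⟨v, v.2, rfl⟩).eq)
    haveI := this
    exact Group.isSolvable_of_isSolvable_injective
      (f := (M.equivMapOfInjective _ N.subtype_injective).toMonoidHom) (M.equivMapOfInjective _ N.subtype_injective).injective
  have hMtop : M = ⊤ := by
    rcases hmin M' hM'n (map_subtype_le M) with e | e
    · exact absurd ((Subgroup.map_eq_bot_iff_of_injective _ N.subtype_injective).1 e) hM1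
    · apply Subgroup.map_injective N.subtype_injective
      rw [← MonoidHom.range_eq_map, Subgroup.range_subtype]
      exact e
  subst hMtop
  have hsimple : IsSimpleGroup N := ⟨fun K hK => hMmin K hK le_top⟩
  refine ⟨N, hN, hsimple, fun hc => hMins ?_, fun g hg => ?_⟩
  · exact Group.isSolvable_of_comm fun a b => Subtype.ext (hc.is_comm.comm a.1 b.1)
  · have hs := hsol (centralizer (N : Set G)) ((v : N) : G) hvG fun x hx =>
      (mem_centralizer_iff.1 hx _ (v : N).2).symm
    have hmem : g ∈ centralizer (N : Set G) := mem_centralizer_iff.2 fun x hx => (hg x hx).symm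
    rwa [hss _ inferInstance hs, mem_bot] at hmem

/-- The characterization. -/
theorem psl_or_pgl_of_hyp [Nontrivial G] (h : Hyp G)
    (hss : ∀ N : Subgroup G, N.Normal → Group.IsSolvable N → N = ⊥) :
    ∃ (F : Type) (_ : Field F) (_ : Fintype F), 3 < Fintype.card F ∧
      (Nonempty (G ≃* Matrix.ProjectiveSpecialLinearGroup (Fin 2) F) ∨
        Nonempty (G ≃* Matrix.ProjGenLinGroup (Fin 2) F)) := by
  classical
  obtain ⟨N, hN, hs, hna, hC⟩ := exists_simple_normal h hss
  haveI := hN
  haveI := hs
  obtain ⟨F₀, iF₀, iF₀', h3₀, ⟨e₀⟩⟩ := (h.of_injective N.subtype N.subtype_injective).isPSLTwo_of_simple hna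
  obtain ⟨F, iF, iF', h3, h4, ⟨e⟩⟩ : ∃ (F : Type) (_ : Field F) (_ : Fintype F), 3 < Fintype.card F ∧
      Fintype.card F ≠ 4 ∧ Nonempty (N ≃* Matrix.ProjectiveSpecialLinearGroup (Fin 2) F) := by
    by_cases h4 : Fintype.card F₀ = 4
    · haveI : Fact (Nat.Prime 5) := ⟨Nat.prime_five⟩
      obtain ⟨e1⟩ := Cfsg.Agent.S0252.result h4
      obtain ⟨e2⟩ := Cfsg.Agent.S0253.result (F := ZMod 5) (ZMod.card 5)
      exact ⟨ZMod 5, inferInstance, inferInstance, by rw [ZMod.card]; norm_num, by rw [ZMod.card]; norm_num,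
        ⟨(e₀.trans e1).trans e2.symm⟩⟩
    · exact ⟨F₀, iF₀, iF₀', h3₀, h4, ⟨e₀⟩⟩
  let ρ : G →* MulAut (Matrix.ProjectiveSpecialLinearGroup (Fin 2) F) :=
    { toFun := fun g => (e.symm.trans (MulAut.conjNormal g)).trans e
      map_one' := MulEquiv.ext fun x => by simp
      map_mul' := fun a b => MulEquiv.ext fun x => by simp }
  have hρ : Function.Injective ρ := by
    refine (injective_iff_map_eq_one ρ).2 fun g hg => hC g fun x hx => ?_
    have h1 := congrArg (fun f : MulAut (Matrix.ProjectiveSpecialLinearGroup (Fin 2) F) => e.symm (f (e ⟨x, hx⟩))) hg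
    simp [ρ] at h1
    have h2 := congrArg Subtype.val h1
    rw [MulAut.conjNormal_apply] at h2
    exact mul_inv_eq_iff_eq_mul.1 h2
  have hin : (MulAut.conj : Matrix.ProjectiveSpecialLinearGroup (Fin 2) F →*
      MulAut (Matrix.ProjectiveSpecialLinearGroup (Fin 2) F)).range ≤ ρ.range := by
    rintro _ ⟨x, rfl⟩
    refine ⟨((e.symm x : N) : G), MulEquiv.ext fun y => e.symm.injective ?_⟩
    simp only [ρ, MonoidHom.coe_mk, OneHom.coe_mk, MulEquiv.trans_apply, MulEquiv.symm_apply_apply,
      MulAut.conj_apply, map_mul, map_inv]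
    exact Subtype.ext (by simp [MulAut.conjNormal_apply])
  have hH : Hyp ρ.range := by
    refine h.of_injective (MonoidHom.ofInjective hρ).symm.toMonoidHom (MonoidHom.ofInjective hρ).symm.injective
  refine ⟨F, iF, iF', h3, ?_⟩
  exact (psl_or_pgl hin hH h3 h4).imp (Nonempty.map (MonoidHom.ofInjective hρ).trans)
    (Nonempty.map (MonoidHom.ofInjective hρ).trans)

end CfsgLib.NormPSL
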