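import Cfsg.Agent.Lib.NormPSL.Dihedral
import Cfsg.Agent.Lib.Lie.Suz.Twisted
import Cfsg.Agent.Lib.Lie.Suz.Sub.Norm
import Cfsg.Agent.Lib.AutPSL.BalanceField

/-!
# Simple groups satisfying the normalizer hypothesis are `PSL₂(q)`
-/

set_option autoImplicit false
set_option linter.unusedSectionVars false
set_option linter.style.haveILetI false

namespace CfsgLib.NormPSL

open Subgroup

variable {G : Type*} [Group G] [Finite G] (h : Hyp G)
include h

/-- An element of order four generates a subgroup normal in the centralizer of its square. -/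
theorem Hyp.conj_of_four {x c : G} (h4 : x ^ 4 = 1) (h2 : x ^ 2 ≠ 1) (hc : c * x ^ 2 = x ^ 2 * c) :
    c * x * c⁻¹ = x ∨ c * x * c⁻¹ = x ^ 3 := by
  have ho : orderOf (x ^ 2) = 2 := orderOf_eq_prime (by rw [← pow_mul]; exact h4) h2
  obtain ⟨i, hi⟩ := mem_zpowers_iff.1 (h.fix x (x ^ 2) c ho (pow_mem (mem_zpowers x) 2) hc)
  have hx4 : x ^ (4 : ℤ) = 1 := by exact_mod_cast h4
  rw [← hi]
  obtain ⟨j, rfl⟩ | ⟨j, rfl⟩ := Int.even_or_odd i
  · exfalso
    refine h2 (conj_eq_one_iff.1 (show c * x ^ 2 * c⁻¹ = 1 from ?_))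
    rw [← conj_pow, ← hi, ← zpow_natCast, ← zpow_mul, show (j + j) * ((2 : ℕ) : ℤ) = 4 * j by push_cast; ring,
      zpow_mul, hx4, one_zpow]
  · obtain ⟨k, rfl⟩ | ⟨k, rfl⟩ := Int.even_or_odd j
    · left
      rw [zpow_add_one, show 2 * (k + k) = 4 * k by ring, zpow_mul, hx4, one_zpow, one_mul]
    · right
      rw [show 2 * (2 * k + 1) + 1 = 4 * k + 3 by ring, zpow_add, zpow_mul, hx4, one_zpow, one_mul]
      exact_mod_cast rfl

/-- `PSL₃(4)` does not satisfy the hypothesis. -/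
theorem Hyp.false_of_psl_three {F : Type} [Field F] [Fintype F] (hF : Fintype.card F = 4)
    (e : G ≃* Matrix.ProjectiveSpecialLinearGroup (Fin 3) F) : False := by
  classical
  haveI : CharP F 2 := CfsgLib.Classical.PSL2Spectrum.char_two_of_dvd (by rw [hF]; norm_num)
  have h11 : (1 : F) + 1 = 0 := CharTwo.add_self_eq_zero 1
  obtain ⟨w, hw0, hw1⟩ : ∃ w : F, w ≠ 0 ∧ w ≠ 1 := by
    obtain ⟨w, hw⟩ := Finset.exists_mem_notMem_of_card_lt_card
      (show ({0, 1} : Finset F).card < (Finset.univ : Finset F).card by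
        rw [Finset.card_univ, hF]; exact lt_of_le_of_lt Finset.card_le_two (by norm_num))
    exact ⟨w, fun r => hw.2 (by simp [r]), fun r => hw.2 (by simp [r])⟩
  let X : Matrix.SpecialLinearGroup (Fin 3) F := ⟨!![1, 1, 1; 0, 1, 1; 0, 0, 1], by simp [Matrix.det_fin_three]⟩
  let Z : Matrix.SpecialLinearGroup (Fin 3) F := ⟨!![1, 0, 1; 0, 1, 0; 0, 0, 1], by simp [Matrix.det_fin_three]⟩
  let W : Matrix.SpecialLinearGroup (Fin 3) F := ⟨!![1, 1, 0; 0, 1, 1; 0, 0, 1], by simp [Matrix.det_fin_three]⟩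
  let D : Matrix.SpecialLinearGroup (Fin 3) F := ⟨!![1, w, 0; 0, 1, 0; 0, 0, 1], by simp [Matrix.det_fin_three]⟩
  let Y : Matrix.SpecialLinearGroup (Fin 3) F := ⟨!![1, 1, 1 + w; 0, 1, 1; 0, 0, 1], by simp [Matrix.det_fin_three]⟩
  have h2 : (2 : F) = 0 := by linear_combination h11
  have h3 : (1 : F) + 1 + 1 = 1 := by linear_combination h11
  have hXX : X * X = Z := Subtype.ext (by
    show !![(1 : F), 1, 1; 0, 1, 1; 0, 0, 1] * !![1, 1, 1; 0, 1, 1; 0, 0, 1] = !![1, 0, 1; 0, 1, 0; 0, 0, 1]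
    ext i j; fin_cases i <;> fin_cases j <;> simp [Matrix.mul_apply, Fin.sum_univ_three, h11, h3])
  have hXZ : X * Z = W := Subtype.ext (by
    show !![(1 : F), 1, 1; 0, 1, 1; 0, 0, 1] * !![1, 0, 1; 0, 1, 0; 0, 0, 1] = !![1, 1, 0; 0, 1, 1; 0, 0, 1]
    ext i j; fin_cases i <;> fin_cases j <;> simp [Matrix.mul_apply, Fin.sum_univ_three, h11, h3])
  have hXW : X * W = 1 := Subtype.ext (by
    show !![(1 : F), 1, 1; 0, 1, 1; 0, 0, 1] * !![1, 1, 0; 0, 1, 1; 0, 0, 1] = 1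
    ext i j; fin_cases i <;> fin_cases j <;> simp [Matrix.mul_apply, Fin.sum_univ_three, h11, h3, Matrix.one_apply])
  have hDX : D * X = Y * D := Subtype.ext (by
    show !![(1 : F), w, 0; 0, 1, 0; 0, 0, 1] * !![1, 1, 1; 0, 1, 1; 0, 0, 1] =
      !![1, 1, 1 + w; 0, 1, 1; 0, 0, 1] * !![1, w, 0; 0, 1, 0; 0, 0, 1]
    ext i j; fin_cases i <;> fin_cases j <;> simp [Matrix.mul_apply, Fin.sum_univ_three] <;> ring)
  have hDZ : D * Z = Z * D := Subtype.ext (by
    show !![(1 : F), w, 0; 0, 1, 0; 0, 0, 1] * !![1, 0, 1; 0, 1, 0; 0, 0, 1] =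
      !![1, 0, 1; 0, 1, 0; 0, 0, 1] * !![1, w, 0; 0, 1, 0; 0, 0, 1]
    ext i j; fin_cases i <;> fin_cases j <;> simp [Matrix.mul_apply, Fin.sum_univ_three])
  let f : Matrix.SpecialLinearGroup (Fin 3) F →* G :=
    e.symm.toMonoidHom.comp (QuotientGroup.mk' (Subgroup.center _))
  have hf : ∀ {A B : Matrix.SpecialLinearGroup (Fin 3) F}, A.1 0 0 = 1 → B.1 0 0 = 1 → f A = f B → A.1 = B.1 := by
    intro A B hA hB hab
    obtain ⟨c, hc⟩ := CfsgLib.AutPSL.proj_eq_imp (e.symm.injective hab)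
    have h0 := congrFun (congrFun hc 0) 0
    rw [hA, Matrix.smul_apply, hB, smul_eq_mul, mul_one] at h0
    rw [hc, ← h0, one_smul]
  have hX2 : f X ^ 2 = f Z := by rw [pow_two, ← map_mul, hXX]
  have hX3 : f X ^ 3 = f W := by rw [pow_succ', hX2, ← map_mul, hXZ]
  have hX4 : f X ^ 4 = 1 := by rw [pow_succ', hX3, ← map_mul, hXW, map_one]
  have hZ1 : f X ^ 2 ≠ 1 := fun r => by
    rw [hX2, ← map_one f] at r
    have := congrFun (congrFun (hf (by simp [Z]) (by simp) r) 0) 2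
    simp [Z] at this
  have hc : f D * f X ^ 2 = f X ^ 2 * f D := by rw [hX2, ← map_mul, ← map_mul, hDZ]
  have hY : f D * f X * (f D)⁻¹ = f Y := by rw [← map_mul, hDX, map_mul, mul_inv_cancel_right]
  rcases h.conj_of_four hX4 hZ1 hc with r | r
  · rw [hY] at r
    have := congrFun (congrFun (hf (by simp [Y]) (by simp [X]) r) 0) 2
    simp [Y, X] at this
    exact hw0 this
  · rw [hY, hX3] at r
    have := congrFun (congrFun (hf (by simp [Y]) (by simp [W]) r) 0) 2
    simp [Y, W] at this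
    exact hw1 (by linear_combination this - h11)

/-- The Suzuki groups do not satisfy the hypothesis. -/
theorem Hyp.false_of_suzuki (hS : Cfsg.Lie.IsoSuzuki G) : False := by
  classical
  obtain ⟨F, iF, iF', m, hm, hF, ⟨e⟩⟩ := hS
  haveI : CharP F 2 := CfsgLib.Classical.PSL2Spectrum.char_two_of_dvd (hF ▸ dvd_pow_self 2 (by omega))
  let e' : Cfsg.Sz F m ≃* G := ((Subgroup.equivMapOfInjective _ _
    Matrix.SpecialLinearGroup.toGL_injective).trans
    (MulEquiv.subgroupCongr (CfsgLib.Lie.Suz.map_Sz_eq hm hF))).trans e.symm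
  have h' : Hyp (Cfsg.Sz F m) := h.of_injective e'.toMonoidHom e'.injective
  have hSz := CfsgLib.Lie.Suz.isSuzField (m := m) hF
  have hth1 : CfsgLib.Lie.Suz.th m (1 : F) = 1 := one_pow _
  have hth0 : CfsgLib.Lie.Suz.th m (0 : F) = 0 := CfsgLib.Lie.Suz.th_zero hSz
  have h11 : (1 : F) + 1 = 0 := CharTwo.add_self_eq_zero 1
  obtain ⟨a, ha0, ha1⟩ : ∃ a : F, a ≠ 0 ∧ a ≠ 1 := by
    obtain ⟨a, ha⟩ := Finset.exists_mem_notMem_of_card_lt_card
      (show ({0, 1} : Finset F).card < (Finset.univ : Finset F).card by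
        rw [Finset.card_univ, hF]
        exact lt_of_le_of_lt Finset.card_le_two (lt_of_lt_of_le (by norm_num : 2 < 2 ^ 2)
          (Nat.pow_le_pow_right two_pos (by omega))))
    exact ⟨a, fun r => ha.2 (by simp [r]), fun r => ha.2 (by simp [r])⟩
  open CfsgLib.Lie.Suz in
  set x : Cfsg.Sz F m := TS hF 1 0
  open CfsgLib.Lie.Suz in
  set c : Cfsg.Sz F m := TS hF a 0
  open CfsgLib.Lie.Suz in
  have hx2 : x ^ 2 = TS hF 0 1 := by rw [pow_two, TS_sq' hF, hth1, mul_one]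
  open CfsgLib.Lie.Suz in
  have hx3 : x ^ 3 = TS hF 1 1 := by rw [pow_succ', hx2, TS_mul' hF, hth1]; simp
  open CfsgLib.Lie.Suz in
  have hx4 : x ^ 4 = 1 := by
    rw [show x ^ 4 = (x ^ 2) ^ 2 from pow_mul x 2 2, hx2, pow_two, TS_sq' hF, mul_zero, TS_zero' hF]
  open CfsgLib.Lie.Suz in
  have hx21 : x ^ 2 ≠ 1 := fun r => by
    rw [hx2, ← TS_zero' hF] at r
    exact one_ne_zero (TS_inj hF r).2
  open CfsgLib.Lie.Suz in
  have hc : c * x ^ 2 = x ^ 2 * c := by rw [hx2, TS_mul' hF, TS_mul' hF, hth0]; simp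
  open CfsgLib.Lie.Suz in
  have hconj : c * x * c⁻¹ = TS hF 1 (th m a + a) := by
    rw [TS_mul' hF, TS_inv' hF, TS_mul' hF, th_add hSz, hth1]
    congr 1
    · linear_combination CharTwo.add_self_eq_zero a
    · linear_combination CharTwo.add_self_eq_zero (th m a * a)
  have hfix : ∀ b : F, CfsgLib.Lie.Suz.th m a + a = b → (b = 0 ∨ b = 1) → False := by
    intro b hb hb'
    have hta : CfsgLib.Lie.Suz.th m a = a + b := by linear_combination hb - CharTwo.add_self_eq_zero a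
    have hb1 : CfsgLib.Lie.Suz.th m b = b := by rcases hb' with rfl | rfl <;> assumption
    have hsq : a * (a - 1) = 0 := by
      have := CfsgLib.Lie.Suz.th_th hSz a
      rw [hta, CfsgLib.Lie.Suz.th_add hSz, hta, hb1] at this
      linear_combination -this + CharTwo.add_self_eq_zero b
    rcases mul_eq_zero.1 hsq with r | r
    · exact ha0 r
    · exact ha1 (sub_eq_zero.1 r)
  rcases h'.conj_of_four hx4 hx21 hc with r | r
  · rw [hconj] at r
    exact hfix _ (CfsgLib.Lie.Suz.TS_inj hF r).2 (Or.inl rfl)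
  · rw [hconj, hx3] at r
    exact hfix _ (CfsgLib.Lie.Suz.TS_inj hF r).2 (Or.inr rfl)

theorem Hyp.isPSLTwo_of_simple [IsSimpleGroup G] (hna : ¬ IsMulCommutative G) : IsPSLTwo G := by
  by_cases hA : ∃ t : G, orderOf t = 2 ∧ HasA t
  · obtain ⟨t, ht, hAt⟩ := hA
    by_cases hcen : ∃ t : G, orderOf t = 2 ∧ HasA t ∧ ∀ x : G, IsTwo x → x * t = t * x → Centr x t
    · obtain ⟨t, ht, hAt, hc⟩ := hcen
      exact h.psl_of_centr hna ht hAt hc
    · refine h.psl_of_inverting hna (fun t ht hAt => ?_) ht hAt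
      push Not at hcen
      obtain ⟨x, hx, hxt, hn⟩ := hcen t ht hAt
      exact h.exists_inverting ht hAt hx hxt hn
  · push Not at hA
    have hc : CfsgLib.CIT.IsCIT G := fun t y ht hy hyt =>
      by_contra fun h1 => hA t ht ⟨y, h1, hy, hyt⟩
    rcases CfsgLib.CIT.simple_cases hna hc with ⟨K, iK, iK', hK, e⟩ | ⟨K, iK, iK', hK, ⟨e⟩⟩ | hS
    · refine ⟨K, iK, iK', ?_, e⟩
      by_contra hle
      push Not at hle
      rcases hK with h9 | ⟨n, hn, hn'⟩ | ⟨hp, k, hk⟩
      · omega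
      · have : 2 ^ 2 ≤ 2 ^ n := Nat.pow_le_pow_right two_pos hn
        omega
      · obtain ⟨e⟩ := e
        have h2 := CfsgLib.Classical.card_psl2 (F := K)
        have h5 : Fintype.card K = 2 ∨ Fintype.card K = 3 := by
          have := hp.two_le; omega
        rw [← Nat.card_congr e.toEquiv] at h2
        have h6 : Nat.card G ≤ 100 := by
          rcases h5 with r | r <;> rw [r] at h2 <;> norm_num at h2 <;> omega
        have := CfsgLib.Invol.card_eq_sixty_of_le_hundred hna h6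
        rcases h5 with r | r <;> rw [r] at h2 <;> norm_num at h2 <;> omega
    · exact (h.false_of_psl_three hK e).elim
    · exact (h.false_of_suzuki hS).elim

end CfsgLib.NormPSL
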